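import Groth.Agent.H14Lift.QuotGood

/-!
# Affine morphisms are Θ-reductive and S-complete
-/

set_option autoImplicit false
set_option linter.unusedVariables false
set_option backward.isDefEq.respectTransparency false
set_option backward.isDefEq.respectTransparency.types false

universe u

open CategoryTheory CategoryTheory.Limits MonoidalCategory CartesianMonoidalCategory MonObj GrpObj
open AlgebraicGeometry Opposite
open scoped TensorProduct Polynomial

noncomputable section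

namespace Groth.Agent.H14Lift

variable {R : Type u} [CommRing R]

lemma isUnit_zPow (n : ℤ) : IsUnit (ThetaS.zPow R n) :=
  IsUnit.of_mul_eq_one _ (by rw [ThetaS.zPow_mul, add_neg_cancel, ThetaS.zPow_zero] : ThetaS.zPow R n * ThetaS.zPow R (-n) = 1)

lemma regular_line [IsDomain R] {ϖ : R} (hϖ : ϖ ≠ 0) :
    RingTheory.Sequence.IsWeaklyRegular R[X] [Polynomial.X, Polynomial.C ϖ] := by
  refine (pair_regular_iff _ _).2 ⟨fun x hx => (mul_eq_zero.1 hx).resolve_left Polynomial.X_ne_zero, fun x hx => ?_⟩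
  rw [Polynomial.X_dvd_iff, Polynomial.coeff_C_mul] at hx
  exact Polynomial.X_dvd_iff.2 ((mul_eq_zero.1 hx).resolve_left hϖ)

lemma regular_st [IsDomain R] {π : R} (hπ : π ≠ 0) :
    RingTheory.Sequence.IsWeaklyRegular (ThetaS.STRing R π) [ThetaS.sFn R π, ThetaS.tFn R π] := by
  let φ : MvPolynomial (Fin 2) R →ₐ[R] R[X] := MvPolynomial.aeval ![0, Polynomial.X]
  let ι' : R[X] →ₐ[R] MvPolynomial (Fin 2) R := Polynomial.aeval (MvPolynomial.X 1)
  have hφ : ∀ p, MvPolynomial.X 0 ∣ p - ι' (φ p) := by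
    intro p
    induction p using MvPolynomial.induction_on with
    | C a => simp [φ, ι', MvPolynomial.algebraMap_eq]
    | add p q hp hq =>
      rw [map_add, map_add, show p + q - (ι' (φ p) + ι' (φ q)) = (p - ι' (φ p)) + (q - ι' (φ q)) by ring]
      exact dvd_add hp hq
    | mul_X p i hp =>
      fin_cases i
      · simp [φ]
      · have : ι' (φ (MvPolynomial.X 1)) = MvPolynomial.X 1 := by simp [φ, ι']
        change MvPolynomial.X 0 ∣ p * MvPolynomial.X 1 - ι' (φ (p * MvPolynomial.X 1))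
        rw [map_mul, map_mul, this, ← sub_mul]
        exact hp.mul_right _
  have hX : φ (MvPolynomial.X 0) = 0 := by simp [φ]
  have hY : φ (MvPolynomial.X 1) = Polynomial.X := by simp [φ]
  have hC : φ (MvPolynomial.C π) = Polynomial.C π := by simp [φ]
  have hrel : ∀ p : MvPolynomial (Fin 2) R, φ p = 0 → MvPolynomial.X 0 ∣ p := fun p hp => by
    simpa [hp] using hφ p
  have hCπ : (Polynomial.C π : R[X]) ≠ 0 := by simpa using hπ
  refine (pair_regular_iff _ _).2 ⟨fun x hx => ?_, fun x hx => ?_⟩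
  · obtain ⟨p, rfl⟩ := Ideal.Quotient.mk_surjective x
    rw [← map_mul, Ideal.Quotient.eq_zero_iff_mem, Ideal.mem_span_singleton'] at hx
    obtain ⟨q, hq⟩ := hx
    have h1 : φ q = 0 := by
      have := congrArg φ hq
      rw [map_mul, map_mul, map_sub, map_mul, hX, hC, zero_mul, zero_mul, zero_sub] at this
      exact (mul_eq_zero.1 this).resolve_right (neg_ne_zero.2 hCπ)
    obtain ⟨q', rfl⟩ := hrel q h1
    rw [Ideal.Quotient.eq_zero_iff_mem, Ideal.mem_span_singleton']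
    exact ⟨q', mul_left_cancel₀ (MvPolynomial.X_ne_zero (0 : Fin 2)) (by rw [← hq]; ring)⟩
  · obtain ⟨p, rfl⟩ := Ideal.Quotient.mk_surjective x
    obtain ⟨y, hy⟩ := hx
    obtain ⟨a, rfl⟩ := Ideal.Quotient.mk_surjective y
    rw [← map_mul, ← map_mul, Ideal.Quotient.eq, Ideal.mem_span_singleton'] at hy
    obtain ⟨c, hc⟩ := hy
    have h1 : Polynomial.X * φ p = -(Polynomial.C π) * φ c := by
      have := congrArg φ hc
      rw [map_mul, map_sub, map_mul, map_sub, map_mul, map_mul, hX, hY, hC, zero_mul, zero_mul, zero_sub, sub_zero] at this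
      rw [← this]
      ring
    obtain ⟨c₁, hc₁⟩ : Polynomial.X ∣ φ c := by
      rw [Polynomial.X_dvd_iff]
      have := congrArg (fun f : R[X] => f.coeff 0) h1
      simp only [Polynomial.coeff_X_mul_zero, neg_mul, Polynomial.coeff_neg, Polynomial.coeff_C_mul] at this
      exact (mul_eq_zero.1 (neg_eq_zero.1 this.symm)).resolve_left hπ
    have h2 : φ p = -(Polynomial.C π) * c₁ :=
      mul_left_cancel₀ Polynomial.X_ne_zero (by rw [h1, hc₁]; ring)
    obtain ⟨d, hd⟩ := hrel (p + MvPolynomial.C π * ι' c₁) (by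
      rw [map_add, map_mul, hC, h2, show φ (ι' c₁) = c₁ from ?_]
      · ring
      · exact congrArg (fun g : R[X] →ₐ[R] R[X] => g c₁)
          (Polynomial.algHom_ext (f := φ.comp ι') (g := AlgHom.id R _) (by simp [φ, ι'])))
    refine ⟨Ideal.Quotient.mk _ (d - MvPolynomial.X 1 * ι' c₁), ?_⟩
    rw [← map_mul, Ideal.Quotient.eq, Ideal.mem_span_singleton']
    exact ⟨ι' c₁, by linear_combination -hd⟩

variable {S : Scheme.{u}}

local notation "K₀" => Scheme.fppfPrecoverage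

lemma preimage_pairOpen_eq_top {B : Type u} [CommRing B] {Y : Scheme.{u}} (g : Y ⟶ Spec (CommRingCat.of B)) (a b : B) :
    (g ⁻¹ᵁ pairOpen a b = ⊤) ↔ Y.basicOpen (g.appTop ((Scheme.ΓSpecIso (CommRingCat.of B)).inv a)) ⊔
      Y.basicOpen (g.appTop ((Scheme.ΓSpecIso (CommRingCat.of B)).inv b)) = ⊤ := by
  rw [pairOpen, Scheme.Hom.preimage_sup, Scheme.preimage_basicOpen_top, Scheme.preimage_basicOpen_top]

theorem liftsUniquely_theta [IsDomain R] {ϖ : R} (hϖ : ϖ ≠ 0) (h : Spec (CommRingCat.of R) ⟶ S)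
    {𝒳 𝒴 : AlgSt.Cat S} (f : 𝒳 ⥤ᵇ 𝒴) (h𝒳 : FibCat.IsFibGrpd 𝒳.p) (h𝒴 : FibCat.IsFibGrpd 𝒴.p)
    (hf : AlgSt.RepByAlgSpWith (AlgSp.RepWith @IsAffineHom) f) :
    LiftSq.LiftsUniquely (ThetaS.thetaIncl K₀ R ϖ h) f := by
  let g₀ : ThetaS.Lau R →ₐ[R] R[X] ⊗[R] ThetaS.Lau R := Algebra.TensorProduct.includeRight
  let x₀ : R[X] →ₐ[R] R[X] ⊗[R] ThetaS.Lau R := Algebra.TensorProduct.includeLeft
  have hQ : (ThetaS.MissesOrigin (K := K₀) ϖ) =
      Lands (X := ThetaS.Line R) (pairOpen (Polynomial.X : R[X]) (Polynomial.C ϖ)) := by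
    funext A
    exact propext (preimage_pairOpen_eq_top A.φ.left _ _).symm
  have hx : x₀ = ThetaS.linePt ((Polynomial.X : R[X]) ⊗ₜ[R] (1 : ThetaS.Lau R)) := Polynomial.algHom_ext (by simp [x₀])
  change LiftSq.LiftsUniquely (AlgSt.subIncl (ThetaS.Theta K₀ R h) (ThetaS.MissesOrigin ϖ)) f
  rw [hQ]
  refine liftsUniquely_gm h (ThetaS.lineAction R) Polynomial.X (Polynomial.C ϖ) (regular_line hϖ)
    (ThetaS.linePt (g₀ (ThetaS.zPow R 1) * (Polynomial.X ⊗ₜ[R] 1))) ?_ ((isUnit_zPow 1).map g₀) isUnit_one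
    (by simp [g₀]) ?_ f h𝒳 h𝒴 hf
  · change lift (CoactBr.pt g₀) (CoactBr.pt x₀) ≫ _ = _
    rw [hx, ThetaS.lineAction_pt]
  · rw [_root_.one_mul, Polynomial.aeval_C]
    rfl

omit S in
lemma exists_st_act {π : R} {A : Type u} [CommRing A] [Algebra R A] (x : ThetaS.STRing R π →ₐ[R] A)
    (g : ThetaS.Lau R →ₐ[R] A) :
    ∃ ξ : ThetaS.STRing R π →ₐ[R] A, lift (CoactBr.pt g) (CoactBr.pt x) ≫ (ThetaS.stAction R π).act = CoactBr.pt ξ ∧
      ξ (ThetaS.sFn R π) = g (ThetaS.zPow R 1) * x (ThetaS.sFn R π) ∧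
      ξ (ThetaS.tFn R π) = g (ThetaS.zPow R (-1)) * x (ThetaS.tFn R π) := by
  have hab : x (ThetaS.sFn R π) * x (ThetaS.tFn R π) = algebraMap R A π := by
    rw [← map_mul, ThetaS.sFn_mul_tFn, AlgHom.commutes]
  have hx : x = ThetaS.stPt _ _ hab :=
    ThetaS.stRing_algHom_ext (ThetaS.stPt_sFn _ _ hab).symm (ThetaS.stPt_tFn _ _ hab).symm
  refine ⟨_, (congrArg (fun q => lift (CoactBr.pt g) (CoactBr.pt q) ≫ (ThetaS.stAction R π).act) hx).trans
    (ThetaS.stAction_pt g _ _ hab), ?_, ?_⟩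
  · exact ThetaS.stPt_sFn _ _ _
  · exact ThetaS.stPt_tFn _ _ _

theorem liftsUniquely_st [IsDomain R] {π : R} (hπ : π ≠ 0) (h : Spec (CommRingCat.of R) ⟶ S)
    {𝒳 𝒴 : AlgSt.Cat S} (f : 𝒳 ⥤ᵇ 𝒴) (h𝒳 : FibCat.IsFibGrpd 𝒳.p) (h𝒴 : FibCat.IsFibGrpd 𝒴.p)
    (hf : AlgSt.RepByAlgSpWith (AlgSp.RepWith @IsAffineHom) f) :
    LiftSq.LiftsUniquely (ThetaS.stIncl K₀ R π h) f := by
  let g₀ : ThetaS.Lau R →ₐ[R] ThetaS.STRing R π ⊗[R] ThetaS.Lau R := Algebra.TensorProduct.includeRight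
  let x₀ : ThetaS.STRing R π →ₐ[R] ThetaS.STRing R π ⊗[R] ThetaS.Lau R := Algebra.TensorProduct.includeLeft
  have hQ : (ThetaS.MissesNode (K := K₀) : (ThetaS.STR K₀ R π).obj → Prop) =
      Lands (X := ThetaS.STSch R π) (pairOpen (ThetaS.sFn R π) (ThetaS.tFn R π)) := by
    funext A
    exact propext (preimage_pairOpen_eq_top A.φ.left _ _).symm
  obtain ⟨ξ, hξ, hs, ht⟩ := exists_st_act (A := ThetaS.STRing R π ⊗[R] ThetaS.Lau R) x₀ g₀
  change LiftSq.LiftsUniquely (AlgSt.subIncl (ThetaS.ST K₀ R π h) ThetaS.MissesNode) f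
  rw [hQ]
  exact liftsUniquely_gm h (ThetaS.stAction R π) (ThetaS.sFn R π) (ThetaS.tFn R π) (regular_st hπ)
    ξ hξ ((isUnit_zPow 1).map (g₀ : ThetaS.Lau R →+* _)) ((isUnit_zPow (-1)).map (g₀ : ThetaS.Lau R →+* _)) hs ht f h𝒳 h𝒴 hf

end Groth.Agent.H14Lift
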