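import Groth.Agent.H14Lift.AffinePts
import Groth.Agent.H14AlgSt.DescPt

/-!
# Unique lifting against affine morphisms

If a category `ℬ` is locally covered by an object `b₀` with affine base, whose pairs of morphisms factor through
an object `b₂` with affine base, and the functions of both extend uniquely from their parts in a subcategory
`Q`, then affine morphisms lift uniquely against the inclusion of `Q`.
-/

set_option autoImplicit false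
set_option linter.unusedVariables false
set_option backward.isDefEq.respectTransparency false
set_option backward.isDefEq.respectTransparency.types false

universe u

open CategoryTheory CategoryTheory.Functor Opposite AlgebraicGeometry CategoryTheory.Limits

noncomputable section

namespace Groth.Agent.H14Lift

open H14Fib H14Stk H14AlgSt

variable {S : Scheme.{u}} {ℬ 𝒳 𝒴 : AlgSt.Cat S} {f : 𝒳 ⥤ᵇ 𝒴} {y : ℬ ⥤ᵇ 𝒴}

/-- The base of `b` is affine and its part in `Q` has a largest member, with the same functions. -/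
def GoodObj (Q : ℬ.obj → Prop) (b : ℬ.obj) : Prop :=
  IsAffine (ℬ.p.obj b).left ∧ ∃ (a : ℬ.obj) (ψ : a ⟶ b), Q a ∧ IsIso (ℬ.p.map ψ).left.appTop ∧
    ∀ (a' : ℬ.obj) (ψ' : a' ⟶ b), Q a' → ∃ k : ℬ.p.obj a' ⟶ ℬ.p.obj a, k ≫ ℬ.p.map ψ = ℬ.p.map ψ'

/-- A morphism into an affine scheme extends uniquely along a morphism with the same global functions. -/
theorem existsUnique_affine_extend {O T P : Scheme.{u}} [IsAffine P] (j : O ⟶ T) [IsIso j.appTop]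
    (s : O ⟶ P) : ∃! v : T ⟶ P, j ≫ v = s := by
  have key : ∀ v : T ⟶ P, v = T.toSpecΓ ≫ Spec.map v.appTop ≫ P.isoSpec.inv := fun v => by
    rw [← Scheme.toSpecΓ_naturality_assoc, ← Scheme.isoSpec_hom, Iso.hom_inv_id, Category.comp_id]
  refine ⟨T.toSpecΓ ≫ Spec.map (s.appTop ≫ inv j.appTop) ≫ P.isoSpec.inv, ?_, fun v hv => ?_⟩
  · change j ≫ T.toSpecΓ ≫ Spec.map (s.appTop ≫ inv j.appTop) ≫ P.isoSpec.inv = s
    rw [Scheme.toSpecΓ_naturality_assoc, ← Spec.map_comp_assoc, Category.assoc, IsIso.inv_hom_id,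
      Category.comp_id, ← Scheme.toSpecΓ_naturality_assoc, ← Scheme.isoSpec_hom, Iso.hom_inv_id, Category.comp_id]
  · have h : (j ≫ v).appTop = s.appTop := by rw [hv]
    rw [Scheme.Hom.comp_appTop, ← IsIso.eq_comp_inv] at h
    rw [← h]
    exact key v

variable (hℬ : FibCat.IsFibGrpd ℬ.p) (h𝒳 : FibCat.IsFibGrpd 𝒳.p) (h𝒴 : FibCat.IsFibGrpd 𝒴.p)
  (hf : AlgSt.RepByAlgSpWith (AlgSp.RepWith @IsAffineHom) f) {Q : ℬ.obj → Prop}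
  (σ : ∀ a : ℬ.obj, Q a → Pt f y a)

/-- The point restricts to the given family. -/
def IsExtQ {b : ℬ.obj} (q : Pt f y b) : Prop := ∀ (a : ℬ.obj) (ψ : a ⟶ b) (h : Q a), Rel ψ (σ a h) q

variable {σ}

include h𝒳 h𝒴 in
lemma IsExtQ.pull {b' b : ℬ.obj} {q : Pt f y b} (h : IsExtQ σ q) {φ : b' ⟶ b} {q' : Pt f y b'}
    (hr : Rel φ q' q) : IsExtQ σ q' := fun a ψ ha => Rel.cancel h𝒳 h𝒴 (h a (ψ ≫ φ) ha) hr

variable (hσ : ∀ {a' a : ℬ.obj} (ψ : a' ⟶ a) (h' : Q a') (h : Q a), Rel ψ (σ a' h') (σ a h))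

include hℬ h𝒳 h𝒴 hf

lemma extQ_unique {b : ℬ.obj} (hb : GoodObj Q b) {q q' : Pt f y b} (h : IsExtQ σ q) (h' : IsExtQ σ q') :
    Rel (𝟙 b) q q' := by
  obtain ⟨haff, a, ψ, hQa, hiso, -⟩ := hb
  obtain ⟨C⟩ := exists_chart f y hℬ h𝒳 h𝒴 hf b
  have := C.aff
  have : IsAffine C.P.left := isAffine_of_isAffineHom C.q.left
  refine C.inj (𝟙 b) q q' ?_
  have e : ∀ r : Pt f y b, IsExtQ σ r → ℬ.p.map ψ ≫ C.point (𝟙 b) r = C.point ψ (σ a hQa) := fun r hr => by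
    rw [← C.nat ψ (𝟙 b) (σ a hQa) r (hr a ψ hQa), Category.comp_id]
  apply Over.OverMorphism.ext
  exact (existsUnique_affine_extend (ℬ.p.map ψ).left (C.point ψ (σ a hQa)).left).unique
    (congrArg (fun m => Over.Hom.left m) (e q h)) (congrArg (fun m => Over.Hom.left m) (e q' h'))

include hσ in
lemma exists_extQ {b : ℬ.obj} (hb : GoodObj Q b) : ∃ q : Pt f y b, IsExtQ σ q := by
  obtain ⟨haff, a, ψ, hQa, hiso, hfac⟩ := hb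
  obtain ⟨C⟩ := exists_chart f y hℬ h𝒳 h𝒴 hf b
  have := C.aff
  have : IsAffine C.P.left := isAffine_of_isAffineHom C.q.left
  let j := (ℬ.p.map ψ).left
  let s := C.point ψ (σ a hQa)
  obtain ⟨v, hv, -⟩ := existsUnique_affine_extend j s.left
  have hvq : v ≫ C.q.left = 𝟙 _ := by
    refine (existsUnique_affine_extend j j).unique ?_ (Category.comp_id _)
    rw [← Category.assoc, hv, ← Over.comp_left, C.point_q]
  let p : ℬ.p.obj b ⟶ C.P := Over.homMk v (by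
    rw [← Over.w C.q, ← Category.assoc, hvq, Category.id_comp])
  obtain ⟨q, hq⟩ := C.surj p (Over.OverMorphism.ext hvq)
  refine ⟨q, fun a' ψ' ha' => ?_⟩
  obtain ⟨k, hk⟩ := hfac a' ψ' ha'
  have h1 := sc_of_fibGrpd hℬ (ℬ.p.map ψ) ψ
  let γ := IsStronglyCartesian.map ℬ.p (ℬ.p.map ψ) ψ (g := k) hk.symm ψ'
  have hγ : γ ≫ ψ = ψ' := IsStronglyCartesian.fac ℬ.p (ℬ.p.map ψ) ψ (g := k) hk.symm ψ'
  obtain ⟨q₁, hq₁⟩ := exists_rel h𝒳 h𝒴 ψ' q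
  have hpt : C.point ψ (σ a hQa) = ℬ.p.map ψ ≫ p := Over.OverMorphism.ext hv.symm
  refine Rel.trans_id h𝒳 h𝒴 ?_ hq₁
  refine C.inj ψ' _ _ ?_
  have e₁ : C.point ψ' q₁ = ℬ.p.map ψ' ≫ p := by
    have := C.nat ψ' (𝟙 b) q₁ q hq₁
    rwa [Category.comp_id, hq] at this
  rw [e₁, ← hγ, C.nat γ ψ (σ a' ha') (σ a hQa) (hσ γ ha' hQa), hpt, ℬ.p.map_comp, Category.assoc]

omit hℬ h𝒳 h𝒴 hf

variable (b₀ : ℬ.obj) (q₀ : Pt f y b₀)

/-- The point agrees with `q₀` wherever both are defined. -/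
def IsExt0 {b : ℬ.obj} (q : Pt f y b) : Prop :=
  ∀ (b' : ℬ.obj) (ψ : b' ⟶ b) (η : b' ⟶ b₀) (q' : Pt f y b'), Rel η q' q₀ → Rel ψ q' q

variable {b₀ q₀}

include h𝒳 h𝒴 in
lemma IsExt0.pull {b' b : ℬ.obj} {q : Pt f y b} (h : IsExt0 b₀ q₀ q) {φ : b' ⟶ b} {q' : Pt f y b'}
    (hr : Rel φ q' q) : IsExt0 b₀ q₀ q' := fun c ψ η qc hc => Rel.cancel h𝒳 h𝒴 (h c (ψ ≫ φ) η qc hc) hr

variable (hQ : ∀ {a' a : ℬ.obj} (_ : a' ⟶ a), Q a → Q a') {b₂ : ℬ.obj} (d₀ d₁ : b₂ ⟶ b₀)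
  (hg₂ : GoodObj Q b₂) (hpair : ∀ (b' : ℬ.obj) (α β : b' ⟶ b₀), ∃ γ : b' ⟶ b₂, γ ≫ d₀ = α ∧ γ ≫ d₁ = β)
  (hcov : ∀ b : ℬ.obj, ∃ R ∈ AlgSp.J S (ℬ.p.obj b), ∀ ⦃V : Over S⦄ (k : V ⟶ ℬ.p.obj b), R k →
    ∃ (b' : ℬ.obj) (ψ : b' ⟶ b) (_ : b' ⟶ b₀), ℬ.p.IsHomLift k ψ)
  (hq₀ : IsExtQ σ q₀)

include hℬ h𝒳 h𝒴 hf hg₂ hpair hq₀

lemma ext0_self : IsExt0 b₀ q₀ q₀ := by
  intro b' ψ η q' h
  obtain ⟨γ, hγ₀, hγ₁⟩ := hpair b' η ψ
  obtain ⟨q₂, h₂⟩ := exists_rel h𝒳 h𝒴 d₀ q₀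
  obtain ⟨q₂', h₂'⟩ := exists_rel h𝒳 h𝒴 d₁ q₀
  have e := extQ_unique hℬ h𝒳 h𝒴 hf hg₂ (hq₀.pull h𝒳 h𝒴 h₂) (hq₀.pull h𝒳 h𝒴 h₂')
  have h3 : Rel γ q' q₂ := Rel.cancel h𝒳 h𝒴 (hγ₀ ▸ h) h₂
  exact hγ₁ ▸ (Rel.trans_id' h𝒳 h𝒴 h3 e).comp h₂'

omit hg₂ hpair hq₀

include hσ hQ in
lemma ext0_of_Q (hq₀ : IsExtQ σ q₀) {a : ℬ.obj} (ha : Q a) : IsExt0 b₀ q₀ (σ a ha) := by
  intro b' ψ η q' h
  exact Rel.trans_id h𝒳 h𝒴 (Rel.cancel_id h𝒳 h𝒴 h (hq₀ b' η (hQ ψ ha))) (hσ ψ (hQ ψ ha) ha)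

variable (h0 : IsExt0 b₀ q₀ q₀)

include h0

lemma point_compat {b : ℬ.obj} (C : Chart f y b) {b' b'' : ℬ.obj} (ψ : b' ⟶ b) (η : b' ⟶ b₀)
    (q' : Pt f y b') (h' : Rel η q' q₀) (ψ' : b'' ⟶ b) (η' : b'' ⟶ b₀) (q'' : Pt f y b'')
    (h'' : Rel η' q'' q₀) {Z : Over S} (u : Z ⟶ ℬ.p.obj b') (v : Z ⟶ ℬ.p.obj b'')
    (e : u ≫ ℬ.p.map ψ = v ≫ ℬ.p.map ψ') : u ≫ C.point ψ q' = v ≫ C.point ψ' q'' := by
  obtain ⟨c, γ, hγ⟩ := hℬ.exists_lift (x := b') u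
  obtain rfl : ℬ.p.obj c = Z := IsHomLift.domain_eq ℬ.p u γ
  obtain rfl : u = ℬ.p.map γ := IsHomLift.eq_of_isHomLift ℬ.p u γ
  have h1 := sc_of_fibGrpd hℬ (ℬ.p.map ψ') ψ'
  have e' : ℬ.p.map (γ ≫ ψ) = v ≫ ℬ.p.map ψ' := by rw [ℬ.p.map_comp, e]
  let γ' := IsStronglyCartesian.map ℬ.p (ℬ.p.map ψ') ψ' (g := v) e' (γ ≫ ψ)
  have hγ' : γ' ≫ ψ' = γ ≫ ψ := IsStronglyCartesian.fac ℬ.p (ℬ.p.map ψ') ψ' (g := v) e' (γ ≫ ψ)
  have hγv : ℬ.p.map γ' = v := (IsHomLift.eq_of_isHomLift ℬ.p v γ').symm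
  obtain ⟨qc, hc⟩ := exists_rel h𝒳 h𝒴 γ q'
  obtain ⟨qc', hc'⟩ := exists_rel h𝒳 h𝒴 γ' q''
  have hid : Rel (𝟙 c) qc qc' :=
    Rel.cancel_id h𝒳 h𝒴 (h0 c (γ' ≫ η') (γ ≫ η) qc (hc.comp h')) (hc'.comp h'')
  rw [← C.nat γ ψ qc q' hc, ← hγv, ← C.nat γ' ψ' qc q'' (Rel.trans_id h𝒳 h𝒴 hid hc'), hγ']

include hcov in
lemma exists_ext0 (b : ℬ.obj) : ∃ q : Pt f y b, IsExt0 b₀ q₀ q := by
  obtain ⟨C⟩ := exists_chart f y hℬ h𝒳 h𝒴 hf b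
  obtain ⟨R, hR, hk⟩ := hcov b
  have hex : ∀ ⦃V : Over S⦄ (k : V ⟶ ℬ.p.obj b), R k → ∃ (b' : ℬ.obj) (ψ : b' ⟶ b) (η : b' ⟶ b₀)
      (q' : Pt f y b') (e : V = ℬ.p.obj b'), Rel η q' q₀ ∧ eqToHom e ≫ ℬ.p.map ψ = k := fun V k hkR => by
    obtain ⟨b', ψ, η, hψ⟩ := hk k hkR
    obtain rfl : ℬ.p.obj b' = V := IsHomLift.domain_eq ℬ.p k ψ
    obtain rfl : k = ℬ.p.map ψ := IsHomLift.eq_of_isHomLift ℬ.p k ψ
    obtain ⟨q', hq'⟩ := exists_rel h𝒳 h𝒴 η q₀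
    exact ⟨b', ψ, η, q', rfl, hq', Category.id_comp _⟩
  choose bb ψψ ηη qq ee hrel hkk using hex
  let fam : ∀ ⦃V : Over S⦄ (k : V ⟶ ℬ.p.obj b), R k → (V ⟶ C.P) := fun V k hk =>
    eqToHom (ee k hk) ≫ C.point (ψψ k hk) (qq k hk)
  have hJ := (isSheaf_iff_isSheaf_of_type _ _).1 ((AlgSp.yon S).obj C.P).property R hR
  obtain ⟨s₀, hs₀, -⟩ := hJ (fun V k hk => ULift.up (fam k hk)) (fun Y₁ Y₂ Z g₁ g₂ k₁ k₂ h₁ h₂ e =>
    congrArg ULift.up (by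
      change g₁ ≫ fam k₁ h₁ = g₂ ≫ fam k₂ h₂
      simp only [fam, ← Category.assoc]
      refine point_compat hℬ h𝒳 h𝒴 hf h0 C _ _ _ (hrel k₁ h₁) _ _ _ (hrel k₂ h₂) _ _ ?_
      simp only [Category.assoc, hkk]
      exact e))
  have hs : ∀ ⦃V : Over S⦄ (k : V ⟶ ℬ.p.obj b) (hk : R k), k ≫ s₀.down = fam k hk := fun V k hk =>
    congrArg ULift.down (hs₀ k hk)
  have hsq : s₀.down ≫ C.q = 𝟙 _ := hom_eq_of_sieve hR fun V k hk => by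
    rw [← Category.assoc, hs k hk, Category.comp_id]
    simp only [fam, Category.assoc, C.point_q, hkk]
  obtain ⟨q, hq⟩ := C.surj s₀.down hsq
  refine ⟨q, fun b' ψ η q' hq' => ?_⟩
  obtain ⟨q₁, hq₁⟩ := exists_rel h𝒳 h𝒴 ψ q
  refine Rel.trans_id h𝒳 h𝒴 (C.inj ψ _ _ ?_) hq₁
  have e₁ : C.point ψ q₁ = ℬ.p.map ψ ≫ s₀.down := by
    have := C.nat ψ (𝟙 b) q₁ q hq₁
    rwa [Category.comp_id, hq] at this
  rw [e₁]
  refine hom_eq_of_sieve ((AlgSp.J S).pullback_stable (ℬ.p.map ψ) hR) fun V k hk => ?_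
  rw [← Category.assoc k (ℬ.p.map ψ), hs _ hk]
  refine point_compat hℬ h𝒳 h𝒴 hf h0 C ψ η q' hq' (ψψ _ hk) (ηη _ hk) (qq _ hk) (hrel _ hk) k _ ?_
  rw [hkk]

include hcov in
lemma ext0_unique {b : ℬ.obj} {q q' : Pt f y b} (h : IsExt0 b₀ q₀ q) (h' : IsExt0 b₀ q₀ q') :
    Rel (𝟙 b) q q' := by
  obtain ⟨C⟩ := exists_chart f y hℬ h𝒳 h𝒴 hf b
  obtain ⟨R, hR, hk⟩ := hcov b
  refine C.inj (𝟙 b) q q' (hom_eq_of_sieve hR fun V k hkR => ?_)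
  obtain ⟨b', ψ, η, hψ⟩ := hk k hkR
  obtain rfl : ℬ.p.obj b' = V := IsHomLift.domain_eq ℬ.p k ψ
  obtain rfl : k = ℬ.p.map ψ := IsHomLift.eq_of_isHomLift ℬ.p k ψ
  obtain ⟨qb, hqb⟩ := exists_rel h𝒳 h𝒴 η q₀
  rw [← C.nat ψ (𝟙 b) qb q (h b' ψ η qb hqb), ← C.nat ψ (𝟙 b) qb q' (h' b' ψ η qb hqb)]

omit h0 q₀ hℬ h𝒳 h𝒴 hf hσ σ b₀

open LiftSq in
/-- Affine morphisms lift uniquely against the inclusion of `Q`. -/
theorem liftsUniquely_of_good (f : 𝒳 ⥤ᵇ 𝒴) (hℬ : FibCat.IsFibGrpd ℬ.p) (h𝒳 : FibCat.IsFibGrpd 𝒳.p)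
    (h𝒴 : FibCat.IsFibGrpd 𝒴.p) (hf : AlgSt.RepByAlgSpWith (AlgSp.RepWith @IsAffineHom) f)
    (Q : ℬ.obj → Prop) (hQ : ∀ {a' a : ℬ.obj} (_ : a' ⟶ a), Q a → Q a') {b₀ b₂ : ℬ.obj}
    (d₀ d₁ : b₂ ⟶ b₀) (hg₀ : GoodObj Q b₀) (hg₂ : GoodObj Q b₂)
    (hpair : ∀ (b' : ℬ.obj) (α β : b' ⟶ b₀), ∃ γ : b' ⟶ b₂, γ ≫ d₀ = α ∧ γ ≫ d₁ = β)
    (hcov : ∀ b : ℬ.obj, ∃ R ∈ AlgSp.J S (ℬ.p.obj b), ∀ ⦃V : Over S⦄ (k : V ⟶ ℬ.p.obj b), R k →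
      ∃ (b' : ℬ.obj) (ψ : b' ⟶ b) (_ : b' ⟶ b₀), ℬ.p.IsHomLift k ψ) :
    LiftsUniquely (AlgSt.subIncl ℬ Q) f := by
  have := faithful_of_repByAlgSp1 h𝒳 h𝒴 (repByAlgSp1_of_with hf)
  intro sq
  let y := sq.bot
  let σ : ∀ a : ℬ.obj, Q a → Pt f y a := fun a ha =>
    ⟨sq.top.obj ⟨a, ha⟩, app sq.iso.hom ⟨a, ha⟩, BasedNatTrans.isHomLift sq.iso.hom rfl⟩
  have hσ : ∀ {a' a : ℬ.obj} (ψ : a' ⟶ a) (h' : Q a') (h : Q a), Rel ψ (σ a' h') (σ a h) :=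
    fun {a' a} ψ h' h => by
      let φ : (⟨a', h'⟩ : (AlgSt.fullSub ℬ Q).obj) ⟶ ⟨a, h⟩ := ObjectProperty.homMk ψ
      exact ⟨sq.top.map φ, @BasedFunctor.preserves_isHomLift _ _ _ _ sq.top _ _ _ _ (ℬ.p.map ψ) φ
        (IsHomLift.map (AlgSt.fullSub ℬ Q).p φ), (sq.iso.hom.toNatTrans.naturality φ).symm⟩
  obtain ⟨q₀, hq₀⟩ := exists_extQ hℬ h𝒳 h𝒴 hf (σ := σ) hσ hg₀
  have h0 := ext0_self hℬ h𝒳 h𝒴 hf d₀ d₁ hg₂ hpair hq₀
  have hQext : ∀ (a : ℬ.obj) (ha : Q a), IsExt0 b₀ q₀ (σ a ha) := fun a ha =>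
    ext0_of_Q hℬ h𝒳 h𝒴 hf hσ hQ hq₀ ha
  have huniq : ∀ {b : ℬ.obj} {q q' : Pt f y b}, IsExt0 b₀ q₀ q → IsExt0 b₀ q₀ q' → Rel (𝟙 b) q q' :=
    fun h h' => ext0_unique hℬ h𝒳 h𝒴 hf hcov h0 h h'
  constructor
  · choose q hq using exists_ext0 hℬ h𝒳 h𝒴 hf hcov h0
    have hr : ∀ {b' b : ℬ.obj} (ψ : b' ⟶ b), Rel ψ (q b') (q b) := fun {b' b} ψ => by
      obtain ⟨q', hq'⟩ := exists_rel h𝒳 h𝒴 ψ (q b)
      exact Rel.trans_id h𝒳 h𝒴 (huniq (hq b') ((hq b).pull h𝒳 h𝒴 hq')) hq'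
    choose m hm hme using @hr
    let fn : ℬ ⥤ᵇ 𝒳 :=
      { obj := fun b => (q b).x
        map := fun {b' b} ψ => m ψ
        map_id := fun b => Rel.unique h𝒳 h𝒴 (hme (𝟙 b)) (by
          rw [f.toFunctor.map_id, y.toFunctor.map_id, Category.comp_id, Category.id_comp])
        map_comp := fun {a b c} φ ψ => Rel.unique h𝒳 h𝒴 (hme (φ ≫ ψ)) (by
          rw [f.toFunctor.map_comp, reassoc_of% (hme φ), hme ψ, y.toFunctor.map_comp, Category.assoc])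
        w := CategoryTheory.Functor.ext (fun b => (q b).obj_eq) (fun b' b ψ => by
          have := hm ψ
          exact IsHomLift.fac' 𝒳.p (ℬ.p.map ψ) (m ψ)) }
    have ht : ∀ a : (AlgSt.fullSub ℬ Q).obj, Rel (𝟙 a.obj) (q a.obj) (σ a.obj a.property) := fun a =>
      huniq (hq a.obj) (hQext a.obj a.property)
    choose t htl hte using ht
    have htl' : ∀ a : (AlgSt.fullSub ℬ Q).obj, 𝒳.p.IsHomLift (𝟙 (ℬ.p.obj a.obj)) (t a) := fun a => by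
      have := htl a
      rwa [ℬ.p.map_id] at this
    have hti : ∀ a, IsIso (t a) := fun a =>
      haveI := htl' a
      isIso_of_fibGrpd h𝒳 (𝟙 (ℬ.p.obj a.obj)) (t a)
    let iT : BasedFunctor.comp (AlgSt.subIncl ℬ Q) fn ≅ sq.top :=
      mkIso (fun a => @asIso _ _ _ _ (t a) (hti a)) (fun {a b} φ => by
        refine Rel.unique h𝒳 h𝒴 (q' := q a.obj) (q := σ b.obj b.property) (ψ := φ.hom) ?_ ?_
        · change (q a.obj).α ≫ f.map (m φ.hom ≫ t b) = _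
          rw [f.toFunctor.map_comp, reassoc_of% (hme φ.hom), hte b, y.toFunctor.map_id, Category.id_comp]
        · change (q a.obj).α ≫ f.map (t a ≫ sq.top.map φ) = _
          rw [f.toFunctor.map_comp, reassoc_of% (hte a), y.toFunctor.map_id, Category.id_comp]
          exact (sq.iso.hom.toNatTrans.naturality φ).symm) htl'
    have hai : ∀ b, IsIso (q b).α := fun b =>
      haveI := (q b).lift
      isIso_of_fibGrpd h𝒴 (𝟙 (ℬ.p.obj b)) (q b).α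
    let iB : y ≅ BasedFunctor.comp fn f :=
      mkIso (fun b => @asIso _ _ _ _ (q b).α (hai b)) (fun {b' b} ψ => (hme ψ).symm) (fun b => (q b).lift)
    refine ⟨⟨fn, iT, iB, hom_ext fun a => ?_⟩⟩
    change (q a.obj).α ≫ f.map (t a) = app sq.iso.hom a
    rw [hte a, y.toFunctor.map_id, Category.id_comp]
  · intro d d'
    let pt : ∀ (e : sq.Lift) (b : ℬ.obj), Pt f y b := fun e b =>
      ⟨e.fn.obj b, app e.isoBot.hom b, BasedNatTrans.isHomLift e.isoBot.hom rfl⟩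
    have hn : ∀ (e : sq.Lift) {b' b : ℬ.obj} (ψ : b' ⟶ b), Rel ψ (pt e b') (pt e b) := fun e b' b ψ =>
      ⟨e.fn.map ψ, @BasedFunctor.preserves_isHomLift _ _ _ _ e.fn _ _ _ _ (ℬ.p.map ψ) ψ (IsHomLift.map ℬ.p ψ),
        (e.isoBot.hom.toNatTrans.naturality ψ).symm⟩
    have hw : ∀ (e : sq.Lift) (a : (AlgSt.fullSub ℬ Q).obj), app e.isoBot.hom a.obj ≫ f.map (app e.isoTop.hom a) =
        y.map (𝟙 a.obj) ≫ (σ a.obj a.property).α := fun e a => by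
      rw [y.toFunctor.map_id, Category.id_comp]
      exact congrArg (fun k => app k a) e.w
    have hs : ∀ (e : sq.Lift) (a : ℬ.obj) (ha : Q a), Rel (𝟙 a) (pt e a) (σ a ha) := fun e a ha =>
      ⟨app e.isoTop.hom ⟨a, ha⟩, by
        rw [ℬ.p.map_id]
        exact BasedNatTrans.isHomLift e.isoTop.hom rfl, hw e ⟨a, ha⟩⟩
    have hext : ∀ (e : sq.Lift) (b : ℬ.obj), IsExt0 b₀ q₀ (pt e b) := fun e b => by
      have h₀ : IsExtQ σ (pt e b₀) := fun a ψ ha =>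
        Rel.trans_id h𝒳 h𝒴 (Rel.symm h𝒳 h𝒴 (hs e a ha)) (hn e ψ)
      have hid := extQ_unique hℬ h𝒳 h𝒴 hf hg₀ hq₀ h₀
      intro b' ψ η q' hq'
      exact Rel.trans_id h𝒳 h𝒴 (Rel.cancel_id h𝒳 h𝒴 (Rel.trans_id' h𝒳 h𝒴 hq' hid) (hn e η)) (hn e ψ)
    have hθ : ∀ b, Rel (𝟙 b) (pt d b) (pt d' b) := fun b => huniq (hext d b) (hext d' b)
    choose θ hθl hθe using hθ
    let Θ : d.fn ⟶ d'.fn :=
      { app := θ
        naturality := fun b' b ψ => by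
          refine Rel.unique h𝒳 h𝒴 (q' := pt d b') (q := pt d' b) (ψ := ψ) ?_ ?_
          · change app d.isoBot.hom b' ≫ f.map (d.fn.map ψ ≫ θ b) = _
            rw [f.toFunctor.map_comp, ← Category.assoc]
            erw [← d.isoBot.hom.toNatTrans.naturality ψ]
            rw [Category.assoc, hθe b, y.toFunctor.map_id, Category.id_comp]
          · change app d.isoBot.hom b' ≫ f.map (θ b' ≫ d'.fn.map ψ) = _
            rw [f.toFunctor.map_comp, ← Category.assoc, hθe b', y.toFunctor.map_id, Category.id_comp]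
            exact (d'.isoBot.hom.toNatTrans.naturality ψ).symm
        isHomLift' := fun b => by
          have := hθl b
          rwa [ℬ.p.map_id] at this }
    have hbot : d.isoBot.hom ≫ BasedCategory.whiskerRight Θ f = d'.isoBot.hom := hom_ext fun b => by
      refine (hθe b).trans ?_
      rw [y.toFunctor.map_id]
      exact Category.id_comp _
    have htop : BasedCategory.whiskerLeft (AlgSt.subIncl ℬ Q) Θ ≫ d'.isoTop.hom = d.isoTop.hom :=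
      hom_ext fun a => by
        refine Rel.unique h𝒳 h𝒴 (q' := pt d a.obj) (q := σ a.obj a.property) (ψ := 𝟙 a.obj) ?_ (hw d a)
        change app d.isoBot.hom a.obj ≫ f.map (θ a.obj ≫ app d'.isoTop.hom a) = _
        rw [f.toFunctor.map_comp, ← Category.assoc, hθe, y.toFunctor.map_id, Category.id_comp]
        exact (hw d' a).trans (by rw [y.toFunctor.map_id, Category.id_comp])
    refine ⟨⟨⟨⟨Θ, htop, hbot⟩⟩, fun η => Sq.Lift.hom_ext (hom_ext fun b => ?_)⟩⟩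
    refine Rel.unique h𝒳 h𝒴 (q' := pt d b) (q := pt d' b) (ψ := 𝟙 b) ?_ (hθe b)
    rw [y.toFunctor.map_id, Category.id_comp]
    exact congrArg (fun k => app k b) η.w_bot

end Groth.Agent.H14Lift
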