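import Groth.Agent.H14Lift.Basic
import Groth.Agent.H14AlgSt.Substack
import Groth.Agent.H14AlgSt.Faithful

/-!
# Points of a representable affine morphism over the objects of a test category

For `f : 𝒳 ⟶ 𝒴` and `y : ℬ ⟶ 𝒴`, a point over an object `b` is an object of `𝒳` with a vertical morphism
`y b ⟶ f x`.  Over the base of a fixed object they are the sections of an affine scheme.
-/

set_option autoImplicit false
set_option linter.unusedVariables false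
set_option backward.isDefEq.respectTransparency false
set_option backward.isDefEq.respectTransparency.types false

universe u

open CategoryTheory CategoryTheory.Functor Opposite AlgebraicGeometry CategoryTheory.Limits

noncomputable section

namespace Groth.Agent.H14Lift

open H14Fib H14Stk H14AlgSt

variable {S : Scheme.{u}} {ℬ 𝒳 𝒴 : AlgSt.Cat S} (f : 𝒳 ⥤ᵇ 𝒴) (y : ℬ ⥤ᵇ 𝒴)

/-- A point over `b`. -/
structure Pt (b : ℬ.obj) where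
  /-- the object -/
  x : 𝒳.obj
  /-- the comparison -/
  α : y.obj b ⟶ f.obj x
  lift : 𝒴.p.IsHomLift (𝟙 (ℬ.p.obj b)) α

variable {f y}

lemma Pt.obj_eq {b : ℬ.obj} (q : Pt f y b) : 𝒳.p.obj q.x = ℬ.p.obj b :=
  (f.w_obj q.x).symm.trans (@IsHomLift.codomain_eq _ _ _ _ 𝒴.p _ _ _ _ _ q.α q.lift)

/-- `q'` is the pullback of `q` along `ψ`. -/
def Rel {b' b : ℬ.obj} (ψ : b' ⟶ b) (q' : Pt f y b') (q : Pt f y b) : Prop :=
  ∃ a : q'.x ⟶ q.x, 𝒳.p.IsHomLift (ℬ.p.map ψ) a ∧ q'.α ≫ f.map a = y.map ψ ≫ q.α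

lemma y_lift {b' b : ℬ.obj} (ψ : b' ⟶ b) : 𝒴.p.IsHomLift (ℬ.p.map ψ) (y.map ψ) :=
  @BasedFunctor.preserves_isHomLift _ _ _ _ y _ _ _ _ (ℬ.p.map ψ) ψ (IsHomLift.map ℬ.p ψ)

lemma f_lift {R T : Over S} {g : R ⟶ T} {a b : 𝒳.obj} {m : a ⟶ b} (h : 𝒳.p.IsHomLift g m) :
    𝒴.p.IsHomLift g (f.map m) :=
  @BasedFunctor.preserves_isHomLift _ _ _ _ f _ _ _ _ g m h

lemma Rel.refl {b : ℬ.obj} (q : Pt f y b) : Rel (𝟙 b) q q := by
  refine ⟨𝟙 q.x, ?_, ?_⟩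
  · rw [ℬ.p.map_id]
    exact IsHomLift.id q.obj_eq
  · rw [f.toFunctor.map_id, y.toFunctor.map_id, Category.comp_id, Category.id_comp]

lemma Rel.comp {b'' b' b : ℬ.obj} {γ : b'' ⟶ b'} {ψ : b' ⟶ b} {q'' : Pt f y b''} {q' : Pt f y b'}
    {q : Pt f y b} (h : Rel γ q'' q') (h' : Rel ψ q' q) : Rel (γ ≫ ψ) q'' q := by
  obtain ⟨a, ha, e⟩ := h
  obtain ⟨a', ha', e'⟩ := h'
  refine ⟨a ≫ a', ?_, ?_⟩
  · rw [ℬ.p.map_comp]
    exact homLift_comp' ha ha'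
  · rw [f.toFunctor.map_comp, y.toFunctor.map_comp, reassoc_of% e, e', Category.assoc]

section Grpd

variable (h𝒳 : FibCat.IsFibGrpd 𝒳.p) (h𝒴 : FibCat.IsFibGrpd 𝒴.p)

include h𝒳 h𝒴

lemma exists_rel {b' b : ℬ.obj} (ψ : b' ⟶ b) (q : Pt f y b) : ∃ q' : Pt f y b', Rel ψ q' q := by
  obtain ⟨x', a, ha⟩ := exists_sc_lift h𝒳 q.obj_eq (ℬ.p.map ψ)
  have hfa := f_lift (f := f) (m := a) (inferInstance : 𝒳.p.IsHomLift (ℬ.p.map ψ) a)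
  have := sc_of_fibGrpd h𝒴 (ℬ.p.map ψ) (f.map a)
  have := q.lift
  have := y_lift (y := y) ψ
  have h1 : 𝒴.p.IsHomLift (ℬ.p.map ψ) (y.map ψ ≫ q.α) := by
    simpa using homLift_comp' (y_lift (y := y) ψ) q.lift
  exact ⟨⟨x', IsCartesian.map 𝒴.p (ℬ.p.map ψ) (f.map a) (y.map ψ ≫ q.α), inferInstance⟩,
    a, inferInstance, IsCartesian.fac 𝒴.p (ℬ.p.map ψ) (f.map a) (y.map ψ ≫ q.α)⟩

lemma Rel.cancel {b'' b' b : ℬ.obj} {γ : b'' ⟶ b'} {ψ : b' ⟶ b} {q'' : Pt f y b''} {q' : Pt f y b'}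
    {q : Pt f y b} (h : Rel (γ ≫ ψ) q'' q) (h' : Rel ψ q' q) : Rel γ q'' q' := by
  obtain ⟨a, ha, e⟩ := h
  obtain ⟨a', ha', e'⟩ := h'
  rw [ℬ.p.map_comp] at ha
  have := sc_of_fibGrpd h𝒳 (ℬ.p.map ψ) a'
  let c := IsStronglyCartesian.map 𝒳.p (ℬ.p.map ψ) a' (g := ℬ.p.map γ) rfl a
  have hc : 𝒳.p.IsHomLift (ℬ.p.map γ) c := inferInstance
  have hf : c ≫ a' = a := IsStronglyCartesian.fac 𝒳.p (ℬ.p.map ψ) a' (g := ℬ.p.map γ) rfl a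
  refine ⟨c, hc, ?_⟩
  have := f_lift (f := f) ha'
  have := sc_of_fibGrpd h𝒴 (ℬ.p.map ψ) (f.map a')
  have h1 : 𝒴.p.IsHomLift (ℬ.p.map γ) (q''.α ≫ f.map c) := by
    simpa using homLift_comp' q''.lift (f_lift (f := f) hc)
  have h2 : 𝒴.p.IsHomLift (ℬ.p.map γ) (y.map γ ≫ q'.α) := by
    simpa using homLift_comp' (y_lift (y := y) γ) q'.lift
  apply IsStronglyCartesian.ext 𝒴.p (ℬ.p.map ψ) (f.map a') (ℬ.p.map γ)
  rw [Category.assoc, ← f.toFunctor.map_comp, hf, e, Category.assoc, e', ← Category.assoc,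
    ← y.toFunctor.map_comp]

lemma Rel.cancel_id {b' b : ℬ.obj} {ψ : b' ⟶ b} {q' q'' : Pt f y b'} {q : Pt f y b} (h : Rel ψ q' q)
    (h' : Rel ψ q'' q) : Rel (𝟙 b') q' q'' :=
  Rel.cancel h𝒳 h𝒴 (by rwa [Category.id_comp]) h'

lemma Rel.symm {b : ℬ.obj} {q q' : Pt f y b} (h : Rel (𝟙 b) q q') : Rel (𝟙 b) q' q :=
  Rel.cancel_id h𝒳 h𝒴 (Rel.refl q') h

lemma Rel.trans_id {b' b : ℬ.obj} {ψ : b' ⟶ b} {q' q'' : Pt f y b'} {q : Pt f y b}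
    (h : Rel (𝟙 b') q'' q') (h' : Rel ψ q' q) : Rel ψ q'' q := by
  simpa using h.comp h'

lemma Rel.trans_id' {b' b : ℬ.obj} {ψ : b' ⟶ b} {q' : Pt f y b'} {q q₁ : Pt f y b}
    (h : Rel ψ q' q) (h' : Rel (𝟙 b) q q₁) : Rel ψ q' q₁ := by
  simpa using h.comp h'

lemma Rel.unique [f.toFunctor.Faithful] {b' b : ℬ.obj} {ψ : b' ⟶ b} {q' : Pt f y b'} {q : Pt f y b}
    {a a' : q'.x ⟶ q.x} (h : q'.α ≫ f.map a = y.map ψ ≫ q.α) (h' : q'.α ≫ f.map a' = y.map ψ ≫ q.α) :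
    a = a' := by
  have := q'.lift
  have := isIso_of_fibGrpd h𝒴 (𝟙 (ℬ.p.obj b')) q'.α
  exact f.toFunctor.map_injective ((cancel_epi q'.α).1 (h.trans h'.symm))

end Grpd

variable (f y) in
/-- The points over the base of `b` as sections of an affine scheme. -/
structure Chart (b : ℬ.obj) where
  /-- the scheme -/
  P : Over S
  /-- its structure map -/
  q : P ⟶ ℬ.p.obj b
  aff : IsAffineHom q.left
  /-- the point of an object -/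
  point : ∀ {b' : ℬ.obj}, (b' ⟶ b) → Pt f y b' → (ℬ.p.obj b' ⟶ P)
  point_q : ∀ {b' : ℬ.obj} (ψ : b' ⟶ b) (q' : Pt f y b'), point ψ q' ≫ q = ℬ.p.map ψ
  nat : ∀ {b'' b' : ℬ.obj} (γ : b'' ⟶ b') (ψ : b' ⟶ b) (q'' : Pt f y b'') (q' : Pt f y b'),
    Rel γ q'' q' → point (γ ≫ ψ) q'' = ℬ.p.map γ ≫ point ψ q'
  inj : ∀ {b' : ℬ.obj} (ψ : b' ⟶ b) (q₁ q₂ : Pt f y b'), point ψ q₁ = point ψ q₂ → Rel (𝟙 b') q₁ q₂
  surj : ∀ p : ℬ.p.obj b ⟶ P, p ≫ q = 𝟙 _ → ∃ q₀ : Pt f y b, point (𝟙 b) q₀ = p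

variable (f y) in
/-- A morphism represented by affine morphisms with a further property has charts with that property. -/
theorem exists_chart_with (hℬ : FibCat.IsFibGrpd ℬ.p) (h𝒳 : FibCat.IsFibGrpd 𝒳.p) (h𝒴 : FibCat.IsFibGrpd 𝒴.p)
    (P₀ : MorphismProperty Scheme.{u}) (hP₀ : P₀ ≤ @IsAffineHom)
    (hf : AlgSt.RepByAlgSpWith (AlgSp.RepWith P₀) f) (b : ℬ.obj) : ∃ C : Chart f y b, P₀ C.q.left := by
  let T := ℬ.p.obj b
  have := isFibered_of_fibGrpd hℬ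
  obtain ⟨z, i, -, hi⟩ := exists_fromOver (𝒳 := ℬ) (x := b) rfl
  let zy := BasedFunctor.comp z y
  obtain ⟨F, e, he, hF⟩ := hf T zy
  let g := AlgSt.spMapOfOver (BasedFunctor.comp e (FibCat.fpFst zy f))
  obtain ⟨kq⟩ := spMapOfOver_eq (BasedFunctor.comp e (FibCat.fpFst zy f))
  obtain ⟨P, γ, θ, sq⟩ := hF.1 (𝟙 ((AlgSp.yon S).obj T))
  have hP : P₀ γ.left := hF.2 (𝟙 ((AlgSp.yon S).obj T)) θ γ sq
  have haff : IsAffineHom γ.left := hP₀ _ hP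
  have : IsIso θ := sq.isIso_fst_of_isIso
  have hθ : θ ≫ g = (AlgSp.yon S).map γ := sq.w.trans (Category.comp_id _)
  let E := BasedFunctor.comp (BasedFunctor.comp (AlgSt.ofOverCat P) (AlgSt.ofSpMap θ)) e
  have : IsIso θ.hom := inferInstanceAs (IsIso ((sheafToPresheaf _ _).map θ))
  have hE : FibCat.IsEquivOver E := isEquivOver_comp (isEquivOver_comp (ofOverCat_isEquivOver P)
    (isEquivOver_ofPshMap θ.hom)) he
  let mγ : BasedFunctor.comp (BasedFunctor.comp (AlgSt.ofOverCat P) (AlgSt.ofSpMap (θ ≫ g)))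
      (AlgSt.toOverCat T) ≅ AlgSt.overMap γ := by
    rw [hθ]
    exact mkIso (fun s => Iso.refl _)
      (fun {_ _} φ => (Category.comp_id _).trans ((Category.id_comp _).trans
        (Over.OverMorphism.ext rfl)).symm)
      (fun s => IsHomLift.id rfl)
  let iE : BasedFunctor.comp E (FibCat.fpFst zy f) ≅ AlgSt.overMap γ :=
    (Stk.restr (BasedFunctor.comp (AlgSt.ofOverCat P) (AlgSt.ofSpMap θ)) _).mapIso kq ≪≫ mγ
  obtain ⟨G, ⟨e₁⟩, ⟨e₂⟩⟩ := hE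
  let kk : BasedFunctor.comp G (AlgSt.overMap γ) ≅ FibCat.fpFst zy f :=
    (Stk.restr G _).mapIso iE.symm ≪≫ (post (FibCat.fp zy f) (FibCat.fpFst zy f)).mapIso e₂
  -- the fibre product object of a point
  have hzl : ∀ {b' : ℬ.obj} (ψ : b' ⟶ b),
      ℬ.p.IsHomLift (ℬ.p.map ψ) (z.map (toTop (Over.mk (ℬ.p.map ψ))) ≫ i.hom) := fun {b'} ψ => by
    have h1 : ℬ.p.IsHomLift (ℬ.p.map ψ) (z.map (toTop (Over.mk (ℬ.p.map ψ)))) :=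
      @BasedFunctor.preserves_isHomLift _ _ _ _ z _ _ _ _ (ℬ.p.map ψ) _
        (toTop_isHomLift (Over.mk (ℬ.p.map ψ)))
    simpa using homLift_comp' h1 hi
  have hχ : ∀ {b' : ℬ.obj} (ψ : b' ⟶ b), ∃ χ : z.obj (Over.mk (ℬ.p.map ψ)) ⟶ b',
      ℬ.p.IsHomLift (𝟙 (ℬ.p.obj b')) χ ∧ χ ≫ ψ = z.map (toTop (Over.mk (ℬ.p.map ψ))) ≫ i.hom := by
    intro b' ψ
    have := hzl ψ
    have := sc_of_fibGrpd hℬ (ℬ.p.map ψ) ψ
    exact ⟨IsCartesian.map ℬ.p (ℬ.p.map ψ) ψ (z.map (toTop (Over.mk (ℬ.p.map ψ))) ≫ i.hom), inferInstance,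
      IsCartesian.fac ℬ.p (ℬ.p.map ψ) ψ _⟩
  choose χ hχl hχf using @hχ
  have hχi : ∀ {b' : ℬ.obj} (ψ : b' ⟶ b) (q' : Pt f y b'), 𝒴.p.IsHomLift (𝟙 (ℬ.p.obj b'))
      (y.map (χ ψ) ≫ q'.α) := fun {b'} ψ q' =>
    homLift_id_comp (@BasedFunctor.preserves_isHomLift _ _ _ _ y _ _ _ _ _ _ (hχl ψ)) q'.lift
  let mkξ : ∀ {b' : ℬ.obj}, (b' ⟶ b) → Pt f y b' → (FibCat.fp zy f).obj := fun {b'} ψ q' =>
    ⟨{ fst := Over.mk (ℬ.p.map ψ)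
       snd := q'.x
       iso := @asIso _ _ _ _ (y.map (χ ψ) ≫ q'.α) (by
         have := hχi ψ q'
         exact isIso_of_fibGrpd h𝒴 (𝟙 (ℬ.p.obj b')) _) }, hχi ψ q'⟩
  have hbase : ∀ ξ : (FibCat.fp zy f).obj, (G.obj ξ).left = ξ.obj.fst.left := fun ξ => G.w_obj ξ
  have hfst : ∀ ξ : (FibCat.fp zy f).obj,
      eqToHom (hbase ξ).symm ≫ (G.obj ξ).hom ≫ γ = ξ.obj.fst.hom := fun ξ => by
    let m := isoApp kk ξ
    have hm : m.hom.left = eqToHom (hbase ξ) := by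
      have h1 : (FibCat.overCat T).p.IsHomLift (𝟙 ξ.obj.fst.left) m.hom := isoApp_lift kk ξ
      have h2 := IsHomLift.fac' (FibCat.overCat T).p (𝟙 ξ.obj.fst.left) m.hom
      change m.hom.left = _ at h2
      rw [h2]
      simp
    have h3 : m.hom.left ≫ ξ.obj.fst.hom = (G.obj ξ).hom ≫ γ := Over.w m.hom
    rw [← h3, hm, eqToHom_trans_assoc, eqToHom_refl, Category.id_comp]
  let point : ∀ {b' : ℬ.obj}, (b' ⟶ b) → Pt f y b' → (ℬ.p.obj b' ⟶ P) := fun {b'} ψ q' =>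
    eqToHom (hbase (mkξ ψ q')).symm ≫ (G.obj (mkξ ψ q')).hom
  refine ⟨⟨P, γ, haff, point, fun {b'} ψ q' => (Category.assoc _ _ _).trans (hfst (mkξ ψ q')), ?_, ?_, ?_⟩, hP⟩
  · intro b'' b' γ₀ ψ q'' q' h
    obtain ⟨a, ha, e'⟩ := h
    let m : (Over.mk (ℬ.p.map (γ₀ ≫ ψ)) : Over T) ⟶ Over.mk (ℬ.p.map ψ) :=
      Over.homMk (ℬ.p.map γ₀) (ℬ.p.map_comp γ₀ ψ).symm
    have key : z.map m ≫ χ ψ = χ (γ₀ ≫ ψ) ≫ γ₀ := by
      have h1 : ℬ.p.IsHomLift (ℬ.p.map γ₀) (z.map m ≫ χ ψ) := by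
        simpa using homLift_comp' (@BasedFunctor.preserves_isHomLift _ _ _ _ z _ _ _ _ (ℬ.p.map γ₀) m
          (overCat_isHomLift m)) (hχl ψ)
      have h2 : ℬ.p.IsHomLift (ℬ.p.map γ₀) (χ (γ₀ ≫ ψ) ≫ γ₀) := by
        simpa using homLift_comp' (hχl (γ₀ ≫ ψ)) (IsHomLift.map ℬ.p γ₀)
      have := sc_of_fibGrpd hℬ (ℬ.p.map ψ) ψ
      apply IsStronglyCartesian.ext ℬ.p (ℬ.p.map ψ) ψ (ℬ.p.map γ₀)
      rw [Category.assoc, hχf, Category.assoc, hχf, ← Category.assoc, ← z.toFunctor.map_comp, toTop_comp]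
    let φ : mkξ (γ₀ ≫ ψ) q'' ⟶ mkξ ψ q' := fpHom m a (by
      change y.map (z.map m) ≫ y.map (χ ψ) ≫ q'.α = (y.map (χ (γ₀ ≫ ψ)) ≫ q''.α) ≫ f.map a
      rw [← Category.assoc, ← y.toFunctor.map_comp, key, y.toFunctor.map_comp, Category.assoc, Category.assoc, e'])
    have hl : (FibCat.fp zy f).p.IsHomLift (ℬ.p.map γ₀) φ :=
      (fp_isHomLift_iff _ _).2 (overCat_isHomLift m)
    have hG := @BasedFunctor.preserves_isHomLift _ _ _ _ G _ _ _ _ _ φ hl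
    have h4 := IsHomLift.fac' (FibCat.overCat P).p (ℬ.p.map γ₀) (G.map φ)
    change (G.map φ).left = _ at h4
    have h5 : (G.map φ).left ≫ (G.obj (mkξ ψ q')).hom = (G.obj (mkξ (γ₀ ≫ ψ) q'')).hom := Over.w (G.map φ)
    change eqToHom _ ≫ (G.obj (mkξ (γ₀ ≫ ψ) q'')).hom = ℬ.p.map γ₀ ≫ eqToHom _ ≫ (G.obj (mkξ ψ q')).hom
    rw [← h5, h4]
    simp
  · intro b' ψ q₁ q₂ h
    let ξ₁ := mkξ ψ q₁
    let ξ₂ := mkξ ψ q₂
    have e0 : (G.obj ξ₁).left = (G.obj ξ₂).left := (hbase ξ₁).trans (hbase ξ₂).symm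
    let m : G.obj ξ₁ ≅ G.obj ξ₂ := Over.isoMk (eqToIso e0) (by
      change eqToHom e0 ≫ (G.obj ξ₂).hom = (G.obj ξ₁).hom
      have h' : eqToHom (hbase ξ₁).symm ≫ (G.obj ξ₁).hom = eqToHom (hbase ξ₂).symm ≫ (G.obj ξ₂).hom := h
      calc eqToHom e0 ≫ (G.obj ξ₂).hom
          = eqToHom (hbase ξ₁) ≫ eqToHom (hbase ξ₂).symm ≫ (G.obj ξ₂).hom := by rw [eqToHom_trans_assoc]
        _ = (G.obj ξ₁).hom := by rw [← h', eqToHom_trans_assoc, eqToHom_refl, Category.id_comp])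
    have hm : (FibCat.overCat P).p.IsHomLift (𝟙 (ℬ.p.obj b')) m.hom :=
      IsHomLift.of_fac' (FibCat.overCat P).p (𝟙 (ℬ.p.obj b')) m.hom (hbase ξ₁) (hbase ξ₂) (by
        change eqToHom e0 = _
        simp)
    let φ : ξ₁ ⟶ ξ₂ := (isoApp e₂ ξ₁).inv ≫ E.map m.hom ≫ (isoApp e₂ ξ₂).hom
    have hφ : (FibCat.fp zy f).p.IsHomLift (𝟙 (ℬ.p.obj b')) φ := by
      have h1 : (FibCat.fp zy f).p.IsHomLift (𝟙 (ℬ.p.obj b')) (isoApp e₂ ξ₁).hom := isoApp_lift e₂ ξ₁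
      have h2 : (FibCat.fp zy f).p.IsHomLift (𝟙 (ℬ.p.obj b')) (isoApp e₂ ξ₂).hom := isoApp_lift e₂ ξ₂
      exact homLift_id_comp (IsHomLift.lift_id_inv _ _ _)
        (homLift_id_comp (@BasedFunctor.preserves_isHomLift _ _ _ _ E _ _ _ _ _ m.hom hm) h2)
    have hfst' : φ.hom.fst = 𝟙 _ := by
      have := fp_isHomLift_fst (𝟙 (ℬ.p.obj b')) φ
      have h3 := IsHomLift.fac' (FibCat.overCat T).p (𝟙 (ℬ.p.obj b')) φ.hom.fst
      refine Over.OverMorphism.ext (h3.trans ?_)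
      simp
      rfl
    refine ⟨φ.hom.snd, ?_, ?_⟩
    · rw [ℬ.p.map_id]
      exact fp_isHomLift_snd' _ φ
    · have hw : y.map (z.map φ.hom.fst) ≫ y.map (χ ψ) ≫ q₂.α = (y.map (χ ψ) ≫ q₁.α) ≫ f.map φ.hom.snd :=
        φ.hom.w
      rw [hfst', z.toFunctor.map_id, y.toFunctor.map_id, Category.id_comp, Category.assoc] at hw
      have := hχl ψ
      have := isIso_of_fibGrpd hℬ (𝟙 (ℬ.p.obj b')) (χ ψ)
      rw [y.toFunctor.map_id, Category.id_comp]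
      exact ((cancel_epi (y.map (χ ψ))).1 hw).symm
  · intro p hp
    let ξ := E.obj (Over.mk p)
    have hξ : (FibCat.fp zy f).p.obj ξ = ℬ.p.obj b := E.w_obj (Over.mk p)
    let ξt := mkξ (𝟙 b)
    let m₁ := isoApp iE (Over.mk p)
    have hm₁ := isoApp_lift iE (Over.mk p)
    let w : (Over.mk (ℬ.p.map (𝟙 b)) : Over T) ≅ ξ.obj.fst :=
      Over.isoMk (eqToIso hξ.symm) (by
        have hm₁' : (FibCat.overCat T).p.IsHomLift (𝟙 (ℬ.p.obj b)) m₁.hom := hm₁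
        have h2 := IsHomLift.fac' (FibCat.overCat T).p (𝟙 (ℬ.p.obj b)) m₁.hom
        change m₁.hom.left = _ at h2
        have h3 : m₁.hom.left ≫ (p ≫ γ) = ξ.obj.fst.hom := Over.w m₁.hom
        change eqToHom hξ.symm ≫ ξ.obj.fst.hom = ℬ.p.map (𝟙 b)
        rw [← h3, h2, hp, ℬ.p.map_id]
        simp)
    have hw : (FibCat.overCat T).p.IsHomLift (𝟙 (ℬ.p.obj b)) w.hom :=
      IsHomLift.of_fac' (FibCat.overCat T).p (𝟙 (ℬ.p.obj b)) w.hom rfl hξ (by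
        change eqToHom hξ.symm = _
        simp)
    have hi' : ℬ.p.IsHomLift (𝟙 (ℬ.p.obj b)) (χ (𝟙 b)) := hχl (𝟙 b)
    have := isIso_of_fibGrpd hℬ (𝟙 (ℬ.p.obj b)) (χ (𝟙 b))
    have hl : 𝒴.p.IsHomLift (𝟙 (ℬ.p.obj b)) (y.map (inv (χ (𝟙 b))) ≫ y.map (z.map w.hom) ≫ ξ.obj.iso.hom) :=
      homLift_id_comp (@BasedFunctor.preserves_isHomLift _ _ _ _ y _ _ _ _ _ _
          (IsHomLift.lift_id_inv_isIso ℬ.p _ (χ (𝟙 b))))
        (homLift_id_comp (@BasedFunctor.preserves_isHomLift _ _ _ _ zy _ _ _ _ _ _ hw)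
          (fp_iso_isHomLift ξ hξ))
    let q₀ : Pt f y b := ⟨ξ.obj.snd, _, hl⟩
    refine ⟨q₀, ?_⟩
    let φ : mkξ (𝟙 b) q₀ ⟶ ξ := fpHom w.hom (𝟙 _) (by
      change y.map (z.map w.hom) ≫ ξ.obj.iso.hom =
        (y.map (χ (𝟙 b)) ≫ y.map (inv (χ (𝟙 b))) ≫ y.map (z.map w.hom) ≫ ξ.obj.iso.hom) ≫ f.map (𝟙 _)
      rw [f.toFunctor.map_id, Category.comp_id, ← Category.assoc (y.map (χ (𝟙 b))), ← y.toFunctor.map_comp,
        IsIso.hom_inv_id, y.toFunctor.map_id, Category.id_comp])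
    have hφ : (FibCat.fp zy f).p.IsHomLift (𝟙 (ℬ.p.obj b)) φ := (fp_isHomLift_iff _ _).2 hw
    let m := G.map φ ≫ (isoApp e₁ (Over.mk p)).hom
    have hm : (FibCat.overCat P).p.IsHomLift (𝟙 (ℬ.p.obj b)) m :=
      homLift_id_comp (@BasedFunctor.preserves_isHomLift _ _ _ _ G _ _ _ _ _ φ hφ) (isoApp_lift e₁ (Over.mk p))
    have h4 := IsHomLift.fac' (FibCat.overCat P).p (𝟙 (ℬ.p.obj b)) m
    change m.left = _ at h4
    have h5 : m.left ≫ p = (G.obj (mkξ (𝟙 b) q₀)).hom := Over.w m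
    change eqToHom _ ≫ (G.obj (mkξ (𝟙 b) q₀)).hom = p
    rw [← h5, h4]
    simp

variable (f y) in
/-- An affine morphism has charts. -/
theorem exists_chart (hℬ : FibCat.IsFibGrpd ℬ.p) (h𝒳 : FibCat.IsFibGrpd 𝒳.p) (h𝒴 : FibCat.IsFibGrpd 𝒴.p)
    (hf : AlgSt.RepByAlgSpWith (AlgSp.RepWith @IsAffineHom) f) (b : ℬ.obj) : Nonempty (Chart f y b) :=
  ⟨(exists_chart_with f y hℬ h𝒳 h𝒴 _ le_rfl hf b).choose⟩

end Groth.Agent.H14Lift
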