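import Groth.Prelude.Def_LiftSq
import Groth.Prelude.Def_FibCat2
import Groth.Agent.H14Fib.FpMap
import Groth.Agent.H14Stk.Basic

/-!
# Composition and base change of unique lifting
-/

set_option autoImplicit false
set_option backward.isDefEq.respectTransparency false
set_option backward.isDefEq.respectTransparency.types false

universe v₇ u₇ v₅ u₅ v₄ u₄ v₃ u₃ v₂ u₂ v u

open CategoryTheory LiftSq

noncomputable section

namespace Groth.Agent.H14Lift

open H14Fib H14Stk

variable {C : Type u} [Category.{v} C]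
  {𝒜 : BasedCategory.{v₂, u₂} C} {ℬ : BasedCategory.{v₃, u₃} C}
  {𝒳 : BasedCategory.{v₄, u₄} C} {𝒴 : BasedCategory.{v₅, u₅} C} {𝒵 : BasedCategory.{v₇, u₇} C}

/-- Unique lifting composes. -/
theorem liftsUniquely_comp {j : 𝒜 ⥤ᵇ ℬ} {f : 𝒳 ⥤ᵇ 𝒴} {g : 𝒴 ⥤ᵇ 𝒵}
    (hf : LiftsUniquely j f) (hg : LiftsUniquely j g) :
    LiftsUniquely j (BasedFunctor.comp f g) := by
  intro sq
  let sq₁ : Sq j g := ⟨BasedFunctor.comp sq.top f, sq.bot, sq.iso⟩
  obtain ⟨⟨d₁⟩, hu₁⟩ := hg sq₁
  constructor
  · let sq₂ : Sq j f := ⟨sq.top, d₁.fn, d₁.isoTop⟩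
    obtain ⟨⟨d₂⟩, -⟩ := hf sq₂
    let β : BasedFunctor.comp d₁.fn g ≅ BasedFunctor.comp (BasedFunctor.comp d₂.fn f) g :=
      { hom := BasedCategory.whiskerRight d₂.isoBot.hom g
        inv := BasedCategory.whiskerRight d₂.isoBot.inv g
        hom_inv_id := by rw [← whiskerRight_comp', Iso.hom_inv_id, whiskerRight_id']
        inv_hom_id := by rw [← whiskerRight_comp', Iso.inv_hom_id, whiskerRight_id'] }
    refine ⟨⟨d₂.fn, d₂.isoTop, d₁.isoBot ≪≫ β, ?_⟩⟩
    have h1 := d₁.w
    have h2 : BasedCategory.whiskerLeft j d₂.isoBot.hom ≫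
        BasedCategory.whiskerRight d₂.isoTop.hom f = d₁.isoTop.hom := d₂.w
    change BasedCategory.whiskerLeft j (d₁.isoBot.hom ≫ BasedCategory.whiskerRight d₂.isoBot.hom g) ≫
      BasedCategory.whiskerRight d₂.isoTop.hom (BasedFunctor.comp f g) = sq.iso.hom
    rw [whiskerLeft_comp', Category.assoc]
    refine Eq.trans ?_ h1
    congr 1
    rw [← h2, whiskerRight_comp']
    rfl
  · intro d d'
    let t : ∀ a : sq.Lift, sq₁.Lift := fun a =>
      ⟨BasedFunctor.comp a.fn f,
        { hom := BasedCategory.whiskerRight a.isoTop.hom f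
          inv := BasedCategory.whiskerRight a.isoTop.inv f
          hom_inv_id := by rw [← whiskerRight_comp', Iso.hom_inv_id, whiskerRight_id']; rfl
          inv_hom_id := by rw [← whiskerRight_comp', Iso.inv_hom_id, whiskerRight_id'] },
        a.isoBot, by
          refine Eq.trans ?_ a.w
          rfl⟩
    obtain ⟨θ₁, hθ₁⟩ := (hu₁ (t d) (t d')).some
    obtain ⟨θ₂, -⟩ := (hu₁ (t d') (t d)).some
    let i : BasedFunctor.comp d.fn f ≅ BasedFunctor.comp d'.fn f :=
      { hom := θ₁.default.hom
        inv := θ₂.default.hom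
        hom_inv_id := congrArg Sq.Lift.Hom.hom
          (((hu₁ (t d) (t d)).some).uniq (θ₁.default ≫ θ₂.default) |>.trans
            (((hu₁ (t d) (t d)).some).uniq (𝟙 _)).symm)
        inv_hom_id := congrArg Sq.Lift.Hom.hom
          (((hu₁ (t d') (t d')).some).uniq (θ₂.default ≫ θ₁.default) |>.trans
            (((hu₁ (t d') (t d')).some).uniq (𝟙 _)).symm) }
    let sq₂ : Sq j f := ⟨sq.top, BasedFunctor.comp d'.fn f, (t d').isoTop⟩
    let e : sq₂.Lift := ⟨d.fn, d.isoTop, i.symm, θ₂.default.w_top⟩
    let e' : sq₂.Lift := ⟨d'.fn, d'.isoTop, Iso.refl _, by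
      rw [Iso.refl_hom, whiskerLeft_id']
      exact Category.id_comp _⟩
    obtain ⟨θ, hθ⟩ := ((hf sq₂).2 e e').some
    have hr : BasedCategory.whiskerRight θ.default.hom f = i.hom := by
      have h := θ.default.w_bot
      change i.inv ≫ BasedCategory.whiskerRight θ.default.hom f = 𝟙 _ at h
      rw [Iso.inv_comp_eq] at h
      exact h.trans (Category.comp_id _)
    refine ⟨⟨⟨⟨θ.default.hom, θ.default.w_top, ?_⟩⟩, fun η => ?_⟩⟩
    · refine Eq.trans ?_ θ₁.default.w_bot
      change _ = d.isoBot.hom ≫ BasedCategory.whiskerRight i.hom g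
      rw [← hr]
      rfl
    · have h1 : BasedCategory.whiskerRight η.hom f = i.hom :=
        congrArg Sq.Lift.Hom.hom (hθ₁ (⟨BasedCategory.whiskerRight η.hom f, by
          change BasedCategory.whiskerLeft j (BasedCategory.whiskerRight η.hom f) ≫
            BasedCategory.whiskerRight d'.isoTop.hom f = BasedCategory.whiskerRight d.isoTop.hom f
          rw [← η.w_top, whiskerRight_comp']
          rfl, η.w_bot⟩ : t d ⟶ t d'))
      have h2 := hθ (⟨η.hom, η.w_top, by
        change i.inv ≫ BasedCategory.whiskerRight η.hom f = 𝟙 _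
        rw [h1, Iso.inv_hom_id]⟩ : e ⟶ e')
      exact Sq.Lift.hom_ext (congrArg (fun k : e ⟶ e' => k.hom) h2)

/-- Unique lifting is stable under base change. -/
theorem liftsUniquely_fpFst {𝒲 : BasedCategory.{v₇, u₇} C} {j : 𝒜 ⥤ᵇ ℬ} {f : 𝒳 ⥤ᵇ 𝒴}
    (y : 𝒲 ⥤ᵇ 𝒴) (hf : LiftsUniquely j f) : LiftsUniquely j (FibCat.fpFst y f) := by
  intro sq
  let i₁ : BasedFunctor.comp j (BasedFunctor.comp sq.bot y) ≅
      BasedFunctor.comp (BasedFunctor.comp sq.top (FibCat.fpSnd y f)) f :=
    { hom := BasedCategory.whiskerRight sq.iso.hom y ≫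
        BasedCategory.whiskerLeft sq.top (FibCat.fpIso y f).hom
      inv := BasedCategory.whiskerLeft sq.top (FibCat.fpIso y f).inv ≫
        BasedCategory.whiskerRight sq.iso.inv y
      hom_inv_id := by
        rw [Category.assoc, ← Category.assoc (BasedCategory.whiskerLeft sq.top _),
          ← whiskerLeft_comp', Iso.hom_inv_id, whiskerLeft_id', Category.id_comp,
          ← whiskerRight_comp', Iso.hom_inv_id, whiskerRight_id']
        rfl
      inv_hom_id := by
        rw [Category.assoc, ← Category.assoc (BasedCategory.whiskerRight sq.iso.inv y),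
          ← whiskerRight_comp', Iso.inv_hom_id, whiskerRight_id', Category.id_comp,
          ← whiskerLeft_comp', Iso.inv_hom_id, whiskerLeft_id']
        rfl }
  let sq₀ : Sq j f :=
    ⟨BasedFunctor.comp sq.top (FibCat.fpSnd y f), BasedFunctor.comp sq.bot y, i₁⟩
  obtain ⟨⟨d₀⟩, hu⟩ := hf sq₀
  constructor
  · let F : ℬ ⥤ᵇ FibCat.fp y f := FibCat.fpLift (F := y) (G := f) sq.bot d₀.fn d₀.isoBot
    let T : BasedFunctor.comp j F ≅ sq.top :=
      mkIso (fun a => fpIsoMk (isoApp sq.iso a) (isoApp d₀.isoTop a) (by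
          have h := congrArg (fun k => k.toNatTrans.app a) d₀.w
          exact h.symm))
        (fun {a b} φ => fp_hom_ext (sq.iso.hom.toNatTrans.naturality φ)
          (d₀.isoTop.hom.toNatTrans.naturality φ))
        (fun a => (fp_isHomLift_iff _ _).2 (isoApp_lift sq.iso a))
    refine ⟨⟨F, T, Iso.refl _, ?_⟩⟩
    apply BasedNatTrans.homCategory.ext
    ext a
    exact Category.id_comp _
  · intro d d'
    let bar : ∀ a : sq.Lift, sq₀.Lift := fun a =>
      ⟨BasedFunctor.comp a.fn (FibCat.fpSnd y f),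
        { hom := BasedCategory.whiskerRight a.isoTop.hom (FibCat.fpSnd y f)
          inv := BasedCategory.whiskerRight a.isoTop.inv (FibCat.fpSnd y f)
          hom_inv_id := by rw [← whiskerRight_comp', Iso.hom_inv_id, whiskerRight_id']; rfl
          inv_hom_id := by rw [← whiskerRight_comp', Iso.inv_hom_id, whiskerRight_id'] },
        { hom := BasedCategory.whiskerRight a.isoBot.hom y ≫
            BasedCategory.whiskerLeft a.fn (FibCat.fpIso y f).hom
          inv := BasedCategory.whiskerLeft a.fn (FibCat.fpIso y f).inv ≫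
            BasedCategory.whiskerRight a.isoBot.inv y
          hom_inv_id := by
            rw [Category.assoc, ← Category.assoc (BasedCategory.whiskerLeft a.fn _),
              ← whiskerLeft_comp', Iso.hom_inv_id, whiskerLeft_id', Category.id_comp,
              ← whiskerRight_comp', Iso.hom_inv_id, whiskerRight_id']
          inv_hom_id := by
            rw [Category.assoc, ← Category.assoc (BasedCategory.whiskerRight a.isoBot.inv y),
              ← whiskerRight_comp', Iso.inv_hom_id, whiskerRight_id', Category.id_comp,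
              ← whiskerLeft_comp', Iso.inv_hom_id, whiskerLeft_id']
            rfl },
        by
          apply BasedNatTrans.homCategory.ext
          ext x
          have h1 := congrArg (fun k => k.toNatTrans.app x) a.w
          have h2 := (a.isoTop.hom.toNatTrans.app x).hom.w
          change a.isoBot.hom.toNatTrans.app (j.obj x) ≫
            (a.isoTop.hom.toNatTrans.app x).hom.fst = sq.iso.hom.toNatTrans.app x at h1
          change (y.map (a.isoBot.hom.toNatTrans.app (j.obj x)) ≫ (a.fn.obj (j.obj x)).obj.iso.hom) ≫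
            f.map (a.isoTop.hom.toNatTrans.app x).hom.snd =
              y.map (sq.iso.hom.toNatTrans.app x) ≫ (sq.top.obj x).obj.iso.hom
          rw [← h1, y.toFunctor.map_comp, Category.assoc, Category.assoc, h2]
          rfl⟩
    obtain ⟨θ₀, hθ₀⟩ := (hu (bar d) (bar d')).some
    let c : BasedFunctor.comp d.fn (FibCat.fpFst y f) ⟶ BasedFunctor.comp d'.fn (FibCat.fpFst y f) :=
      d.isoBot.inv ≫ d'.isoBot.hom
    have hsq : ∀ b, y.map (c.toNatTrans.app b) ≫ (d'.fn.obj b).obj.iso.hom =
        (d.fn.obj b).obj.iso.hom ≫ f.map (θ₀.default.hom.toNatTrans.app b) := fun b => by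
      have h : (y.map (d.isoBot.hom.toNatTrans.app b) ≫ (d.fn.obj b).obj.iso.hom) ≫
          f.map (θ₀.default.hom.toNatTrans.app b) =
            y.map (d'.isoBot.hom.toNatTrans.app b) ≫ (d'.fn.obj b).obj.iso.hom :=
        congrArg (fun k => k.toNatTrans.app b) θ₀.default.w_bot
      have h' : d.isoBot.inv.toNatTrans.app b ≫ d.isoBot.hom.toNatTrans.app b = 𝟙 _ :=
        congrArg (fun k => k.toNatTrans.app b) d.isoBot.inv_hom_id
      change y.map (d.isoBot.inv.toNatTrans.app b ≫ d'.isoBot.hom.toNatTrans.app b) ≫ _ = _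
      rw [y.toFunctor.map_comp, Category.assoc, ← h, Category.assoc, ← y.toFunctor.map_comp_assoc, h',
        y.toFunctor.map_id, Category.id_comp]
    let N : d.fn.toFunctor ⟶ d'.fn.toFunctor :=
      { app := fun b => fpHom (c.toNatTrans.app b) (θ₀.default.hom.toNatTrans.app b) (hsq b)
        naturality := fun a b φ => fp_hom_ext (c.toNatTrans.naturality φ)
          (θ₀.default.hom.toNatTrans.naturality φ) }
    let η : d.fn ⟶ d'.fn := ⟨N, fun b => (fp_isHomLift_iff _ _).2 (c.isHomLift' b)⟩
    refine ⟨⟨⟨⟨η, ?_, ?_⟩⟩, fun ψ => ?_⟩⟩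
    · apply BasedNatTrans.homCategory.ext
      ext x
      rotate_left
      · exact congrArg (fun k => k.toNatTrans.app x) θ₀.default.w_top
      have h1 : d.isoBot.hom.toNatTrans.app (j.obj x) ≫ (d.isoTop.hom.toNatTrans.app x).hom.fst =
          sq.iso.hom.toNatTrans.app x := congrArg (fun k => k.toNatTrans.app x) d.w
      have h2 : d'.isoBot.hom.toNatTrans.app (j.obj x) ≫ (d'.isoTop.hom.toNatTrans.app x).hom.fst =
          sq.iso.hom.toNatTrans.app x := congrArg (fun k => k.toNatTrans.app x) d'.w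
      change (d.isoBot.inv.toNatTrans.app (j.obj x) ≫ d'.isoBot.hom.toNatTrans.app (j.obj x)) ≫
        (d'.isoTop.hom.toNatTrans.app x).hom.fst = (d.isoTop.hom.toNatTrans.app x).hom.fst
      rw [Category.assoc, h2, ← h1, ← Category.assoc]
      exact (congrArg (· ≫ _) (congrArg (fun k => k.toNatTrans.app (j.obj x)) d.isoBot.inv_hom_id)).trans
        (Category.id_comp _)
    · change d.isoBot.hom ≫ c = d'.isoBot.hom
      exact Iso.hom_inv_id_assoc _ _
    · apply Sq.Lift.hom_ext
      apply BasedNatTrans.homCategory.ext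
      ext b
      have hc : BasedCategory.whiskerRight ψ.hom (FibCat.fpFst y f) = c :=
        (Iso.eq_inv_comp d.isoBot).2 ψ.w_bot
      · exact congrArg (fun k => k.toNatTrans.app b) hc
      have hb : d.isoBot.hom ≫ BasedCategory.whiskerRight ψ.hom (FibCat.fpFst y f) =
          d'.isoBot.hom := ψ.w_bot
      have h3 := hθ₀ (⟨BasedCategory.whiskerRight ψ.hom (FibCat.fpSnd y f), by
          apply BasedNatTrans.homCategory.ext
          ext x
          exact congrArg (fun k => (k.toNatTrans.app x).hom.snd) ψ.w_top, by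
          apply BasedNatTrans.homCategory.ext
          ext x
          have h4 : d.isoBot.hom.toNatTrans.app x ≫ (ψ.hom.toNatTrans.app x).hom.fst =
              d'.isoBot.hom.toNatTrans.app x := congrArg (fun k => k.toNatTrans.app x) hb
          have h5 := (ψ.hom.toNatTrans.app x).hom.w
          change (y.map (d.isoBot.hom.toNatTrans.app x) ≫ (d.fn.obj x).obj.iso.hom) ≫
            f.map (ψ.hom.toNatTrans.app x).hom.snd =
              y.map (d'.isoBot.hom.toNatTrans.app x) ≫ (d'.fn.obj x).obj.iso.hom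
          rw [← h4, y.toFunctor.map_comp, Category.assoc, Category.assoc, h5]⟩ : bar d ⟶ bar d')
      exact congrArg (fun k => k.hom.toNatTrans.app b) h3

end Groth.Agent.H14Lift
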