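import Groth.Agent.H29Slice.TransBC

/-!
# Functions on the complement of a regular pair
-/

set_option autoImplicit false
set_option backward.isDefEq.respectTransparency false
set_option backward.isDefEq.respectTransparency.types false

universe u

open CategoryTheory AlgebraicGeometry Opposite TopologicalSpace

namespace Groth.Agent.H14Lift

/-- A power of a regular element is regular. -/
theorem eq_zero_of_pow_mul {A : Type u} [CommRing A] {a : A} (ha : ∀ x, a * x = 0 → x = 0) :
    ∀ (n : ℕ) (x : A), a ^ n * x = 0 → x = 0 := by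
  intro n
  induction n with
  | zero => intro x hx; simpa using hx
  | succ n ih => intro x hx; exact ha x (ih (a * x) (by rwa [← mul_assoc, ← pow_succ]))

/-- A weakly regular pair, elementwise. -/
theorem pair_regular_iff {A : Type u} [CommRing A] (a b : A) :
    RingTheory.Sequence.IsWeaklyRegular A [a, b] ↔
      (∀ x, a * x = 0 → x = 0) ∧ ∀ x, a ∣ b * x → a ∣ x := by
  rw [H29Slice.isWeaklyRegular_iff_elementwise]
  constructor
  · intro h
    refine ⟨fun x hx => ?_, fun x hx => ?_⟩
    · have := h 0 (by simp) x (by simp [Ideal.ofList, hx])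
      simpa [Ideal.ofList] using this
    · have := h 1 (by simp) x (by simpa [Ideal.ofList, Ideal.mem_span_singleton] using hx)
      simpa [Ideal.ofList, Ideal.mem_span_singleton] using this
  · rintro ⟨ha, hb⟩ i hi x hx
    match i, hi with
    | 0, _ =>
      simp only [Ideal.ofList, List.take_zero, List.not_mem_nil, Set.ofPred_false, Ideal.span_empty,
        Ideal.mem_bot, List.getElem_cons_zero] at hx ⊢
      exact ha x hx
    | 1, _ =>
      simp only [Ideal.ofList, List.take_succ_cons, List.take_zero, List.mem_singleton, Set.ofPred_eq_eq_singleton,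
        Ideal.mem_span_singleton, List.getElem_cons_succ, List.getElem_cons_zero] at hx ⊢
      exact hb x hx

/-- For a regular pair `a, b`, an element whose multiple by a power of `b` is divisible by a power of `a` is divisible by that power. -/
theorem pow_dvd_of_pair {A : Type u} [CommRing A] (a b : A) (ha : ∀ x, a * x = 0 → x = 0)
    (hb : ∀ x, a ∣ b * x → a ∣ x) : ∀ (n k : ℕ) (x : A), a ^ n ∣ b ^ k * x → a ^ n ∣ x := by
  have h1 : ∀ (k : ℕ) (x : A), a ∣ b ^ k * x → a ∣ x := by
    intro k
    induction k with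
    | zero => intro x hx; simpa using hx
    | succ k ih => intro x hx; exact hb x (ih (b * x) (by rwa [← mul_assoc, ← pow_succ]))
  intro n
  induction n with
  | zero => intro k x _; simp
  | succ n ih =>
    intro k x hx
    obtain ⟨x', rfl⟩ := h1 k x ((dvd_pow_self a n.succ_ne_zero).trans hx)
    obtain ⟨w, hw⟩ := hx
    have e : a * (b ^ k * x' - a ^ n * w) = 0 := by linear_combination hw
    obtain ⟨z, rfl⟩ := ih k x' ⟨w, sub_eq_zero.mp (ha _ e)⟩
    exact ⟨z, by rw [pow_succ]; ring⟩

/-- Functions extend uniquely from the open where one of the members of a regular pair is invertible. -/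
theorem bijective_res_of_pair {X : Scheme.{u}} [IsAffine X] (a b : Γ(X, ⊤))
    (h : RingTheory.Sequence.IsWeaklyRegular Γ(X, ⊤) [a, b]) :
    Function.Bijective (X.presheaf.map (homOfLE (le_top : X.basicOpen a ⊔ X.basicOpen b ≤ ⊤)).op).hom := by
  obtain ⟨ha, hb⟩ := (pair_regular_iff a b).1 h
  let U := X.basicOpen a ⊔ X.basicOpen b
  let ab := X.basicOpen a ⊓ X.basicOpen b
  let r : ∀ {V W : X.Opens}, V ≤ W → (Γ(X, W) →+* Γ(X, V)) := fun e => (X.presheaf.map (homOfLE e).op).hom
  have rr : ∀ {V W Z : X.Opens} (e : V ≤ W) (e' : W ≤ Z) (s : Γ(X, Z)), r e (r e' s) = r (e.trans e') s :=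
    fun e e' s => by
      change (X.presheaf.map _ ≫ X.presheaf.map _).hom s = _
      rw [← Functor.map_comp]
      rfl
  have hA : IsLocalization.Away a Γ(X, X.basicOpen a) := (isAffineOpen_top X).isLocalization_basicOpen a
  have hB : IsLocalization.Away b Γ(X, X.basicOpen b) := (isAffineOpen_top X).isLocalization_basicOpen b
  have hab : ab = X.basicOpen (a * b) := (X.basicOpen_mul a b).symm
  have halg : ∀ (c : Γ(X, ⊤)) (s : Γ(X, ⊤)), algebraMap Γ(X, ⊤) Γ(X, X.basicOpen c) s = r le_top s :=
    fun c s => rfl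
  have injA : Function.Injective (r (le_top : X.basicOpen a ≤ ⊤)) := by
    rw [injective_iff_map_eq_zero]
    intro s hs
    obtain ⟨⟨_, n, rfl⟩, hn⟩ := (IsLocalization.map_eq_zero_iff (Submonoid.powers a) Γ(X, X.basicOpen a) s).1 hs
    exact eq_zero_of_pow_mul ha n s hn
  refine ⟨fun s t e => injA ?_, fun s => ?_⟩
  · rw [← rr (le_sup_left : X.basicOpen a ≤ U) le_top, ← rr (le_sup_left : X.basicOpen a ≤ U) le_top]
    exact congrArg _ e
  obtain ⟨⟨x, ⟨_, n, rfl⟩⟩, hx⟩ := IsLocalization.surj (Submonoid.powers a) (r (le_sup_left : X.basicOpen a ≤ U) s)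
  obtain ⟨⟨y, ⟨_, m, rfl⟩⟩, hy⟩ := IsLocalization.surj (Submonoid.powers b) (r (le_sup_right : X.basicOpen b ≤ U) s)
  simp only [halg] at hx hy
  have e1 : r (le_top : ab ≤ ⊤) (b ^ m * x) = r (le_top : ab ≤ ⊤) (a ^ n * y) := by
    have hx' := congrArg (r (inf_le_left : ab ≤ X.basicOpen a)) hx
    have hy' := congrArg (r (inf_le_right : ab ≤ X.basicOpen b)) hy
    simp only [map_mul, rr] at hx' hy' ⊢
    rw [← hx', ← hy']
    ring
  have hAB : IsLocalization.Away (a * b) Γ(X, X.basicOpen (a * b)) :=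
    (isAffineOpen_top X).isLocalization_basicOpen (a * b)
  have e2 : algebraMap Γ(X, ⊤) Γ(X, X.basicOpen (a * b)) (b ^ m * x) = algebraMap _ _ (a ^ n * y) := by
    rw [halg, halg, ← rr hab.ge le_top, ← rr hab.ge le_top, e1]
  obtain ⟨⟨_, k, rfl⟩, hk⟩ := (IsLocalization.eq_iff_exists (Submonoid.powers (a * b)) _).1 e2
  have e3 : a ^ k * (b ^ (k + m) * x - a ^ n * (b ^ k * y)) = 0 := by
    simp only [mul_pow] at hk
    linear_combination hk
  have e4 : b ^ (k + m) * x - a ^ n * (b ^ k * y) = 0 := eq_zero_of_pow_mul ha k _ e3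
  obtain ⟨z, hz⟩ := pow_dvd_of_pair a b ha hb n (k + m) x ⟨b ^ k * y, sub_eq_zero.mp e4⟩
  have hsA : r (le_sup_left : X.basicOpen a ≤ U) (r le_top z) = r le_sup_left s := by
    have hu : IsUnit (r (le_top : X.basicOpen a ≤ ⊤) (a ^ n)) :=
      IsLocalization.map_units (M := Submonoid.powers a) Γ(X, X.basicOpen a) ⟨_, n, rfl⟩
    rw [rr]
    refine hu.mul_left_injective ?_
    change r le_top z * _ = r le_sup_left s * _
    rw [hx, hz, map_mul, mul_comm]
  have hsB : r (le_sup_right : X.basicOpen b ≤ U) (r le_top z) = r le_sup_right s := by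
    have h2 := congrArg (r (inf_le_left : ab ≤ X.basicOpen a)) hsA
    simp only [rr] at h2
    obtain ⟨⟨d, ⟨_, j, rfl⟩⟩, hd⟩ := IsLocalization.surj (Submonoid.powers b)
      (r (le_sup_right : X.basicOpen b ≤ U) (r le_top z) - r le_sup_right s)
    simp only [halg] at hd
    have h4 : r (le_top : ab ≤ ⊤) d = 0 := by
      have h5 := congrArg (r (inf_le_right : ab ≤ X.basicOpen b)) hd
      simp only [map_mul, map_sub, rr] at h5
      rw [← h5, h2, sub_self, zero_mul]
    have h6 : algebraMap Γ(X, ⊤) Γ(X, X.basicOpen (a * b)) d = 0 := by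
      rw [halg, ← rr hab.ge le_top, h4, map_zero]
    obtain ⟨⟨_, l, rfl⟩, hl⟩ := (IsLocalization.map_eq_zero_iff (Submonoid.powers (a * b)) _ d).1 h6
    have h7 : b ^ l * d = 0 := by
      have h8 : a ^ l * (b ^ l * d) = 0 := by rw [← mul_assoc, ← mul_pow]; exact hl
      exact eq_zero_of_pow_mul ha l _ h8
    have h9 : r (le_top : X.basicOpen b ≤ ⊤) d = 0 :=
      (IsLocalization.map_eq_zero_iff (Submonoid.powers b) Γ(X, X.basicOpen b) d).2 ⟨⟨_, l, rfl⟩, h7⟩
    rw [h9] at hd
    exact sub_eq_zero.mp ((IsLocalization.map_units (M := Submonoid.powers b) Γ(X, X.basicOpen b)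
      ⟨_, j, rfl⟩).mul_left_eq_zero.mp hd)
  refine ⟨z, X.sheaf.eq_of_locally_eq' (fun i : Bool => if i then X.basicOpen a else X.basicOpen b) U
    (fun i => homOfLE (by cases i <;> simp [U])) ?_ _ _ ?_⟩
  · rw [iSup_bool_eq]
    simp [U]
  · intro i
    cases i
    · exact hsB
    · exact hsA

end Groth.Agent.H14Lift
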