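import Groth.Agent.H14Lift.AffineExtend
import Groth.Agent.H14Lift.Hartogs
import Groth.Agent.H14Quot.Torsor
import Groth.Agent.H14AlgSt.StackProps
import Groth.Prelude.Def_ThetaS

/-!
# Affine morphisms lift uniquely against punctured quotients of affine schemes by the multiplicative group
-/

set_option autoImplicit false
set_option linter.unusedVariables false
set_option backward.isDefEq.respectTransparency false
set_option backward.isDefEq.respectTransparency.types false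

universe u

open CategoryTheory CategoryTheory.Limits MonoidalCategory CartesianMonoidalCategory MonObj GrpObj
open AlgebraicGeometry Opposite
open scoped TensorProduct

noncomputable section

namespace Groth.Agent.H14Lift

open H14Fib H14Stk H14AlgSt H14Quot

/-- Composition with a morphism of base schemes is fibred in groupoids. -/
theorem fibGrpd_overMap {S' S : Scheme.{u}} (h : S' ⟶ S) : FibCat.IsFibGrpd (Over.map h) where
  exists_lift {x V} f := by
    let y : Over S' := Over.mk (f.left ≫ x.hom)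
    let ψ : y ⟶ x := Over.homMk f.left rfl
    have e : (Over.map h).obj y = V := by
      have hw : (f.left ≫ x.hom) ≫ h = V.hom := (Category.assoc _ _ _).trans (Over.w f)
      change Over.mk ((f.left ≫ x.hom) ≫ h) = Over.mk V.hom
      rw [hw]
    refine ⟨y, ψ, IsHomLift.of_fac' (Over.map h) f ψ e rfl ?_⟩
    apply Over.OverMorphism.ext
    simp only [eqToHom_refl, Category.comp_id, Over.comp_left, Over.eqToHom_left, Over.map_map_left, ψ, Over.homMk_left]
    exact (Category.id_comp _).symm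
  isStronglyCartesian {y x} φ :=
    { universal_property' := fun {a'} g φ' hφ' => by
        have hg : g ≫ (Over.map h).map φ = (Over.map h).map φ' :=
          IsHomLift.eq_of_isHomLift (Over.map h) (g ≫ (Over.map h).map φ) φ'
        have hl : g.left ≫ φ.left = φ'.left := congrArg (fun k => Over.Hom.left k) hg
        let χ : a' ⟶ y := Over.homMk g.left (by
          change g.left ≫ y.hom = a'.hom
          rw [← Over.w φ, ← Category.assoc, hl, Over.w])
        have hχ : (Over.map h).map χ = g := Over.OverMorphism.ext rfl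
        refine ⟨χ, ⟨hχ ▸ IsHomLift.map (Over.map h) χ, Over.OverMorphism.ext hl⟩, ?_⟩
        rintro χ' ⟨hχ', -⟩
        exact Over.OverMorphism.ext
          (congrArg (fun k => Over.Hom.left k) (IsHomLift.eq_of_isHomLift (Over.map h) g χ')).symm }

section Quot

variable {S S' : Scheme.{u}} (h : S' ⟶ S) {G : Over S'} [GrpObj G] {X : Over S'} {aX : AlgGrp.Action G X}

local notation "K₀" => Scheme.fppfPrecoverage

/-- The map of an object lands in an open. -/
def Lands (U : X.left.Opens) (A : (AlgSt.QuotSt K₀ G aX).obj) : Prop := A.φ.left ⁻¹ᵁ U = ⊤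

lemma lands_of_hom {U : X.left.Opens} {A B : (AlgSt.QuotSt K₀ G aX).obj} (ψ : A ⟶ B) (hB : Lands U B) :
    Lands U A := by
  change A.φ.left ⁻¹ᵁ U = ⊤
  rw [← ψ.wφ]
  change ψ.top.left ⁻¹ᵁ (B.φ.left ⁻¹ᵁ U) = ⊤
  rw [show B.φ.left ⁻¹ᵁ U = ⊤ from hB]
  rfl

variable {U : X.left.Opens} (hinv : aX.act.left ⁻¹ᵁ U = (snd G X).left ⁻¹ᵁ U)

include hinv in
lemma lands_iff_of_hom {A : (AlgSt.QuotSt K₀ G aX).obj} {T : Over S'} {t : T ⟶ X}
    (ψ : A ⟶ triv K₀ G aX t) : Lands U A ↔ ∀ s, t.left (ψ.base.left s) ∈ U := by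
  have hsurj : Surjective A.π.left :=
    torsor_prop @Surjective le_rfl A (surjective_group (η : 𝟙_ (Over S') ⟶ G))
  have e : (triv K₀ G aX t).φ.left ⁻¹ᵁ U = (snd G T).left ⁻¹ᵁ (t.left ⁻¹ᵁ U) := by
    change (G ◁ t).left ⁻¹ᵁ (aX.act.left ⁻¹ᵁ U) = (snd G T ≫ t).left ⁻¹ᵁ U
    rw [hinv]
    change (G ◁ t ≫ snd G X).left ⁻¹ᵁ U = _
    rw [whiskerLeft_snd]
  have e2 : A.φ.left ⁻¹ᵁ U = A.π.left ⁻¹ᵁ (ψ.base.left ⁻¹ᵁ (t.left ⁻¹ᵁ U)) := by
    rw [← ψ.wφ]
    change ψ.top.left ⁻¹ᵁ ((triv K₀ G aX t).φ.left ⁻¹ᵁ U) = _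
    rw [e]
    exact congrArg (fun m => Over.Hom.left m ⁻¹ᵁ (t.left ⁻¹ᵁ U))
      (show ψ.top ≫ snd G T = A.π ≫ ψ.base from ψ.cart.w)
  change A.φ.left ⁻¹ᵁ U = ⊤ ↔ _
  rw [e2]
  constructor
  · intro H s
    obtain ⟨p, rfl⟩ := hsurj.surj s
    exact (H.ge (trivial : p ∈ (⊤ : A.P.left.Opens)) :)
  · intro H
    exact top_unique fun p _ => H _

include hinv in
/-- A trivial torsor over an affine scheme with unique extension of functions from its part landing in `U`. -/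
lemma goodObj_triv {T : Over S'} [IsAffine T.left] (t : T ⟶ X) (hT : Function.Bijective
      (T.left.presheaf.map (homOfLE (le_top : t.left ⁻¹ᵁ U ≤ ⊤)).op).hom) :
    GoodObj (ℬ := ThetaS.overS h (AlgSt.QuotSt K₀ G aX)) (Lands U) (triv K₀ G aX t) := by
  let V := t.left ⁻¹ᵁ U
  let T' : Over S' := H13AlgSp.openOver T V
  let j : T' ⟶ T := H13AlgSp.openIncl T V
  let ψ : triv K₀ G aX (j ≫ t) ⟶ triv K₀ G aX t :=
    (AlgSt.quotMap K₀ G aX).map ((AlgSt.ofOverCat X).map (Over.homMk j rfl : Over.mk (j ≫ t) ⟶ Over.mk t))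
  refine ⟨(inferInstance : IsAffine T.left), triv K₀ G aX (j ≫ t), ψ,
    (lands_iff_of_hom hinv ψ).2 fun s => V.range_ι.le ⟨s, rfl⟩, ?_, fun A ψ' hA => ?_⟩
  · change IsIso V.ι.appTop
    have : V.ι.appTop = T.left.presheaf.map (homOfLE (le_top : V ≤ ⊤)).op ≫ V.topIso.inv := by
      rw [Scheme.Opens.ι_appTop, Scheme.Opens.topIso_inv, ← Functor.map_comp]
      rfl
    rw [this]
    have : IsIso (T.left.presheaf.map (homOfLE (le_top : V ≤ ⊤)).op) := (ConcreteCategory.isIso_iff_bijective _).2 hT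
    infer_instance
  · have hr : Set.range ψ'.base.left ⊆ Set.range V.ι := by
      rintro _ ⟨s, rfl⟩
      exact V.range_ι.ge ((lands_iff_of_hom hinv ψ').1 hA s)
    refine ⟨Over.homMk (IsOpenImmersion.lift V.ι ψ'.base.left hr) ?_, Over.OverMorphism.ext ?_⟩
    · change IsOpenImmersion.lift V.ι ψ'.base.left hr ≫ (V.ι ≫ T.hom) ≫ h = A.base.hom ≫ h
      rw [Category.assoc, IsOpenImmersion.lift_fac_assoc]
      exact (Category.assoc _ _ _).symm.trans (congrArg (· ≫ h) (Over.w ψ'.base))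
    · exact IsOpenImmersion.lift_fac _ _ hr

include hinv in
/-- Affine morphisms lift uniquely against `[U/G] ⊆ [X/G]` when functions extend from `U` and from its preimage in
`G ×X` along the action. -/
theorem liftsUniquely_quot [IsAffine X.left] {T : Over S'} [IsAffine T.left] (σ : T ⟶ G ⊗ X) [IsIso σ]
    (hX : Function.Bijective (X.left.presheaf.map (homOfLE (le_top : U ≤ ⊤)).op).hom)
    (hT : Function.Bijective (T.left.presheaf.map (homOfLE (le_top : (σ ≫ aX.act).left ⁻¹ᵁ U ≤ ⊤)).op).hom)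
    {𝒳 𝒴 : AlgSt.Cat S} (f : 𝒳 ⥤ᵇ 𝒴) (h𝒳 : FibCat.IsFibGrpd 𝒳.p) (h𝒴 : FibCat.IsFibGrpd 𝒴.p)
    (hf : AlgSt.RepByAlgSpWith (AlgSp.RepWith @IsAffineHom) f) :
    LiftSq.LiftsUniquely (AlgSt.subIncl (ThetaS.overS h (AlgSt.QuotSt K₀ G aX)) (Lands U)) f := by
  let ℬ := ThetaS.overS h (AlgSt.QuotSt K₀ G aX)
  have hq : FibCat.IsFibGrpd (AlgSt.QuotSt K₀ G aX).p := quotSt_fibGrpd
  have hℬ : FibCat.IsFibGrpd ℬ.p := fibGrpd_comp _ _ hq (fibGrpd_overMap h)
  let b₀ := triv K₀ G aX (𝟙 X)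
  let mk₀ : ∀ {Z : Over S'} (a : Z ⟶ X), triv K₀ G aX a ⟶ b₀ := fun {Z} a =>
    (AlgSt.quotMap K₀ G aX).map ((AlgSt.ofOverCat X).map (toTop (Over.mk a)))
  let t₂ : T ⟶ X := σ ≫ aX.act
  have hφ₀ : ∀ {Z : Over S'} (p : Z ⟶ b₀.P), p ≫ b₀.φ = p ≫ aX.act := fun {Z} p => by
    exact (congrArg (fun m => p ≫ m ≫ aX.act) (MonoidalCategory.whiskerLeft_id G X)).trans
      (congrArg (p ≫ ·) (Category.id_comp _))
  let d₁ : triv K₀ G aX t₂ ⟶ b₀ := homOfSec σ (hφ₀ σ)
  refine liftsUniquely_of_good (ℬ := ℬ) f hℬ h𝒳 h𝒴 hf (Lands U) (fun ψ => lands_of_hom ψ) (b₀ := b₀)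
    (mk₀ t₂) d₁ ?_ (goodObj_triv h hinv t₂ hT) ?_ ?_
  · refine goodObj_triv h hinv (𝟙 X) ?_
    exact hX
  · intro A α β
    let a : A.base ⟶ X := α.base
    let e : triv K₀ G aX a ⟶ A := cartLift α (mk₀ a) (𝟙 _) (by
      rw [Category.id_comp]
      rfl)
    have : IsIso e := by
      have : IsIso ((AlgSt.QuotSt K₀ G aX).p.map e) := inferInstanceAs (IsIso (𝟙 A.base))
      exact isIso_of_map_isIso hq e
    let τ : A.base ⟶ b₀.P := secOfHom (e ≫ β)
    have hτ : τ ≫ b₀.φ = a := secOfHom_φ (e ≫ β)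
    let l : A.base ⟶ T := τ ≫ inv σ
    have hl : l ≫ σ = τ := by simp [l]
    have hla : l ≫ t₂ = a := by rw [← Category.assoc, hl, ← hφ₀]; exact hτ
    let m : Over.mk a ⟶ Over.mk t₂ := Over.homMk l hla
    let γ' : triv K₀ G aX a ⟶ triv K₀ G aX t₂ := (AlgSt.quotMap K₀ G aX).map ((AlgSt.ofOverCat X).map m)
    have h₀ : γ' ≫ mk₀ t₂ = mk₀ a := by
      rw [← Functor.map_comp, ← Functor.map_comp]
      exact congrArg _ (congrArg _ (toTop_comp m))
    have h₁ : γ' ≫ d₁ = e ≫ β := by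
      rw [← homOfSec_secOfHom (e ≫ β)]
      refine (map_comp_homOfSec (A := b₀) σ _ m).trans ?_
      congr 1
    refine ⟨inv e ≫ γ', ?_, ?_⟩
    · rw [Category.assoc, h₀, IsIso.inv_comp_eq]
      exact (cartLift_comp _ _ _ _).symm
    · rw [Category.assoc, h₁, IsIso.inv_hom_id_assoc]
  · intro A
    obtain ⟨R, hR, hs⟩ := A.loc
    obtain ⟨κ, Z, g, rfl⟩ := Presieve.exists_eq_ofArrows R
    have hR' : Presieve.ofArrows Z g ∈ Scheme.fppfPrecoverage.coverings A.base.left := hR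
    obtain ⟨hcov, hmor⟩ := (Scheme.ofArrows_mem_precoverage_iff _).1 hR'
    choose i hi using hcov
    let C : A.base.left → Over S' := fun x => Over.mk (g (i x) ≫ A.base.hom)
    let c : ∀ x, C x ⟶ A.base := fun x => Over.homMk (g (i x)) rfl
    let R' : Sieve (ℬ.p.obj A) :=
      { arrows := fun V k => ∃ (b' : ℬ.obj) (ψ : b' ⟶ A) (_ : b' ⟶ b₀), ℬ.p.IsHomLift k ψ
        downward_closed := by
          rintro V V' k ⟨b', ψ, eη, hψ⟩ g'
          obtain ⟨b'', γc, hγ⟩ := exists_sc_lift hℬ (IsHomLift.domain_eq ℬ.p k ψ) g'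
          exact ⟨b'', γc ≫ ψ, γc ≫ eη, homLift_comp' inferInstance hψ⟩ }
    refine ⟨R', GrothendieckTopology.superset_covering _ ?_ (H13AlgSp.ofArrows_mem_J
      (T := ℬ.p.obj A) (C := fun x => (Over.map h).obj (C x)) (fun x => (Over.map h).map (c x))
      (fun x => (hmor (i x)).1) (fun x => (hmor (i x)).2) (fun t => ⟨t, hi t⟩)), fun V k hk => hk⟩
    refine (Sieve.generate_le_iff _ _).2 (Presieve.ofArrows_le_iff.2 fun x => ?_)
    obtain ⟨s, hsg⟩ := hs (g (i x)) ⟨i x⟩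
    change s ≫ A.π.left = g (i x) at hsg
    let s' : C x ⟶ A.P := Over.homMk s (by
      change s ≫ A.P.hom = g (i x) ≫ A.base.hom
      rw [← hsg, Category.assoc, Over.w A.π])
    let ψ : triv K₀ G aX (s' ≫ A.φ) ⟶ A := homOfSec s' rfl
    refine ⟨triv K₀ G aX (s' ≫ A.φ), ψ, mk₀ _, ?_⟩
    have hb : ψ.base = c x := Over.OverMorphism.ext hsg
    rw [← hb]
    exact IsHomLift.map ℬ.p ψ

end Quot

section Gm

variable {R : Type u} [CommRing R] {B : Type u} [CommRing B] [Algebra R B] {S : Scheme.{u}}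

local notation "K₀" => Scheme.fppfPrecoverage

/-- The locus where one of two functions is invertible. -/
def pairOpen (a b : B) : (Spec (CommRingCat.of B)).Opens :=
  (Spec (CommRingCat.of B)).basicOpen ((Scheme.ΓSpecIso (CommRingCat.of B)).inv a) ⊔
    (Spec (CommRingCat.of B)).basicOpen ((Scheme.ΓSpecIso (CommRingCat.of B)).inv b)

omit [Algebra R B] in
lemma preimage_pairOpen {L : Type u} [CommRing L] (φ : B →+* L) (a b : B) :
    Spec.map (CommRingCat.ofHom φ) ⁻¹ᵁ pairOpen a b = pairOpen (φ a) (φ b) := by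
  rw [pairOpen, pairOpen, Scheme.Hom.preimage_sup]
  have e : ∀ c : B, (Spec.map (CommRingCat.ofHom φ)).appTop ((Scheme.ΓSpecIso (CommRingCat.of B)).inv c) =
      (Scheme.ΓSpecIso (CommRingCat.of L)).inv (φ c) := fun c =>
    (congrArg (fun k => k.hom c) (Scheme.ΓSpecIso_inv_naturality (CommRingCat.ofHom φ))).symm
  rw [Scheme.preimage_basicOpen_top, Scheme.preimage_basicOpen_top, e, e]

omit [Algebra R B] in
lemma pairOpen_mul_unit {a b u v : B} (hu : IsUnit u) (hv : IsUnit v) :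
    pairOpen (u * a) (v * b) = pairOpen a b := by
  unfold pairOpen
  rw [map_mul, map_mul, Scheme.basicOpen_mul, Scheme.basicOpen_mul, Scheme.basicOpen_of_isUnit _ (hu.map _),
    Scheme.basicOpen_of_isUnit _ (hv.map _), top_inf_eq, top_inf_eq]

omit [Algebra R B] in
lemma bijective_res_pairOpen {a b : B} (hab : RingTheory.Sequence.IsWeaklyRegular B [a, b]) :
    Function.Bijective ((Spec (CommRingCat.of B)).presheaf.map
      (homOfLE (le_top : pairOpen a b ≤ ⊤)).op).hom := by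
  let e := (Scheme.ΓSpecIso (CommRingCat.of B)).symm.commRingCatIsoToRingEquiv
  refine bijective_res_of_pair _ _ ((pair_regular_iff _ _).2 ?_)
  obtain ⟨ha, hb⟩ := (pair_regular_iff a b).1 hab
  refine ⟨fun x hx => ?_, fun x hx => ?_⟩
  · obtain ⟨y, rfl⟩ := e.surjective x
    have : e (a * y) = 0 := by rw [map_mul]; exact hx
    rw [ha y ((map_eq_zero_iff e e.injective).1 this), map_zero]
  · obtain ⟨y, rfl⟩ := e.surjective x
    have h1 : e a ∣ e (b * y) := by rw [map_mul]; exact hx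
    exact map_dvd e (hb y ((map_dvd_iff e).1 h1))

/-- Affine morphisms lift uniquely against the part of `[Spec B/G_m]` where one of two elements of a regular pair,
semi-invariant for the action, is invertible. -/
theorem liftsUniquely_gm (h : Spec (CommRingCat.of R) ⟶ S) (aX : AlgGrp.Action (ThetaS.Gm R) (CoactBr.sp R B))
    (a b : B) (hab : RingTheory.Sequence.IsWeaklyRegular B [a, b]) (ξ : B →ₐ[R] B ⊗[R] ThetaS.Lau R)
    (hξ : lift (CoactBr.pt (Algebra.TensorProduct.includeRight : ThetaS.Lau R →ₐ[R] B ⊗[R] ThetaS.Lau R))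
      (CoactBr.pt (Algebra.TensorProduct.includeLeft : B →ₐ[R] B ⊗[R] ThetaS.Lau R)) ≫ aX.act = CoactBr.pt ξ)
    {u v : B ⊗[R] ThetaS.Lau R} (hu : IsUnit u) (hv : IsUnit v) (ha : ξ a = u * a ⊗ₜ 1) (hb : ξ b = v * b ⊗ₜ 1)
    {𝒳 𝒴 : AlgSt.Cat S} (f : 𝒳 ⥤ᵇ 𝒴) (h𝒳 : FibCat.IsFibGrpd 𝒳.p) (h𝒴 : FibCat.IsFibGrpd 𝒴.p)
    (hf : AlgSt.RepByAlgSpWith (AlgSp.RepWith @IsAffineHom) f) :
    LiftSq.LiftsUniquely (AlgSt.subIncl (ThetaS.overS h (AlgSt.QuotSt K₀ (ThetaS.Gm R) aX))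
      (Lands (X := CoactBr.sp R B) (pairOpen a b))) f := by
  let Λ := ThetaS.Lau R
  letI : (algSpec (CommRingCat.of R)).Braided := braidedAlgSpec
  have : IsAffine (CoactBr.sp R B).left := inferInstanceAs (IsAffine (Spec _))
  have : IsAffine (CoactBr.sp R (B ⊗[R] Λ)).left := inferInstanceAs (IsAffine (Spec _))
  let σ : CoactBr.sp R (B ⊗[R] Λ) ⟶ ThetaS.Gm R ⊗ CoactBr.sp R B :=
    lift (CoactBr.pt (Algebra.TensorProduct.includeRight : Λ →ₐ[R] B ⊗[R] Λ))
      (CoactBr.pt (Algebra.TensorProduct.includeLeft : B →ₐ[R] B ⊗[R] Λ))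
  have : IsIso σ := by
    let τ : CoactBr.sp R (B ⊗[R] Λ) ⟶ CoactBr.sp R B ⊗ ThetaS.Gm R :=
      lift (CoactBr.pt (Algebra.TensorProduct.includeLeft : B →ₐ[R] B ⊗[R] Λ))
        (CoactBr.pt (Algebra.TensorProduct.includeRight : Λ →ₐ[R] B ⊗[R] Λ))
    have : IsIso τ := by
      have hτ : τ ≫ Functor.LaxMonoidal.μ (algSpec (CommRingCat.of R)) (op (.of R B)) (op (.of R Λ)) = 𝟙 _ := by
        refine (CoactBr.lift_pt_pt _ _).trans ?_
        rw [show Algebra.TensorProduct.lift (Algebra.TensorProduct.includeLeft : B →ₐ[R] B ⊗[R] Λ)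
          Algebra.TensorProduct.includeRight (fun _ _ => .all _ _) = AlgHom.id R _ by
            ext <;> simp, CoactBr.pt_id]
      exact IsIso.of_isIso_fac_right hτ
    have : IsIso (lift (snd (CoactBr.sp R B) (ThetaS.Gm R)) (fst _ _)) :=
      ⟨⟨lift (snd _ _) (fst _ _), by rw [comp_lift, lift_fst, lift_snd, lift_fst_snd],
        by rw [comp_lift, lift_fst, lift_snd, lift_fst_snd]⟩⟩
    rw [show σ = τ ≫ lift (snd _ _) (fst _ _) by rw [comp_lift, lift_fst, lift_snd]]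
    infer_instance
  let U : (CoactBr.sp R B).left.Opens := pairOpen a b
  have hsnd : (σ ≫ snd _ _).left ⁻¹ᵁ U = pairOpen (a ⊗ₜ[R] (1 : Λ)) (b ⊗ₜ[R] (1 : Λ)) := by
    rw [lift_snd]
    exact preimage_pairOpen _ a b
  have key : (σ ≫ aX.act).left ⁻¹ᵁ U = (σ ≫ snd _ _).left ⁻¹ᵁ U := by
    rw [hsnd, show σ ≫ aX.act = CoactBr.pt ξ from hξ]
    refine (preimage_pairOpen ξ.toRingHom a b).trans ?_
    change pairOpen (ξ a) (ξ b) = _
    rw [ha, hb, pairOpen_mul_unit hu hv]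
  have hinv : aX.act.left ⁻¹ᵁ U = (snd (ThetaS.Gm R) (CoactBr.sp R B)).left ⁻¹ᵁ U := by
    have : IsIso σ.left := inferInstanceAs (IsIso ((Over.forget _).map σ))
    refine TopologicalSpace.Opens.ext (Set.preimage_injective.2 σ.left.surjective ?_)
    exact congrArg SetLike.coe key
  refine liftsUniquely_quot h hinv σ (bijective_res_pairOpen hab) ?_ f h𝒳 h𝒴 hf
  have h2 : RingTheory.Sequence.IsWeaklyRegular (B ⊗[R] Λ) [a ⊗ₜ[R] (1 : Λ), b ⊗ₜ[R] (1 : Λ)] :=
    RingTheory.Sequence.IsWeaklyRegular.of_flat (S := B ⊗[R] Λ) hab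
  have h3 := bijective_res_pairOpen h2
  rw [← hsnd, ← key] at h3
  exact h3

end Gm

end Groth.Agent.H14Lift
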