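import Groth.Agent.H14Lift.AffineExtend
import Groth.Agent.H14AlgSt.Diag2
import Groth.Agent.H12AlgSp.Univ
import Mathlib.AlgebraicGeometry.ZariskisMainTheorem

/-!
# Lifts into separated morphisms are unique against schematically dense maps
-/

set_option autoImplicit false
set_option linter.unusedVariables false
set_option backward.isDefEq.respectTransparency false
set_option backward.isDefEq.respectTransparency.types false

universe u

open CategoryTheory CategoryTheory.Functor Opposite AlgebraicGeometry CategoryTheory.Limits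

noncomputable section

namespace Groth.Agent.H14Lift

open H14Fib H14Stk H14AlgSt

variable {S : Scheme.{u}} {𝒜 ℬ 𝒳 𝒴 : AlgSt.Cat S} {f : 𝒳 ⥤ᵇ 𝒴}

/-- The diagonal of a separated representable morphism is a closed immersion. -/
theorem repWith_closedImmersion_diag (h𝒳 : AlgSt.IsAlgStack Scheme.fppfPrecoverage 𝒳)
    (h𝒴 : AlgSt.IsAlgStack Scheme.fppfPrecoverage 𝒴) (hf : AlgSt.RepByAlgSp1 f) (hs : AlgSt.IsSeparatedMor f) :
    AlgSt.RepByAlgSpWith (AlgSp.RepWith @IsClosedImmersion) (FibCat.diag f) := by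
  refine repWith_diag_transfer (P := AlgSp.IsUnivClosedMor) (P' := AlgSp.RepWith @IsClosedImmersion)
    sourceIsoInv_univClosed (sourceIsoInv_of_respectsIso _) h𝒳 h𝒴 hf (fun U V v hm hl hu => ?_)
    (repWith_mono (fun a _ _ ha => ha.2.2) hs)
  have hrep : AlgSp.RepWith ⊤ ((AlgSp.yon S).map v) := (AlgSp.repWith_yon_map_iff ⊤ v).2 trivial
  have : UniversallyClosed v.left :=
    (AlgSp.repWith_yon_map_iff _ v).1 ((H12AlgSp.repWith_universallyClosed_iff hrep.rep).2 hu)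
  have : IsSeparated v.left := inferInstance
  have : IsProper v.left := { }
  exact (AlgSp.repWith_yon_map_iff _ v).2 ((IsClosedImmersion.iff_isProper_and_mono v.left).2 ⟨inferInstance, hm⟩)

/-- A closed immersion into an affine scheme through which a schematically dominant map factors is an isomorphism. -/
theorem isIso_of_factor {O P T : Scheme.{u}} [IsAffine T] (q : P ⟶ T) [IsClosedImmersion q] (k : O ⟶ P)
    (h : Function.Injective (k ≫ q).appTop) : IsIso q := by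
  have : IsAffine P := isAffine_of_isAffineHom q
  have hb : Function.Bijective q.appTop := by
    refine ⟨fun a b e => h ?_, q.app_surjective ⊤ (isAffineOpen_top T)⟩
    rw [Scheme.Hom.comp_appTop]
    exact congrArg k.appTop e
  have : IsIso q.appTop := (ConcreteCategory.isIso_iff_bijective _).2 hb
  have e : q = P.isoSpec.hom ≫ Spec.map q.appTop ≫ T.isoSpec.inv := by
    rw [Scheme.isoSpec_hom, ← Scheme.toSpecΓ_naturality_assoc, ← Scheme.isoSpec_hom, Iso.hom_inv_id, Category.comp_id]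
  rw [e]
  infer_instance

variable (h𝒳 : FibCat.IsFibGrpd 𝒳.p) (h𝒴 : FibCat.IsFibGrpd 𝒴.p) (hℬ : FibCat.IsFibGrpd ℬ.p)

include h𝒳 h𝒴 hℬ in
open LiftSq in
/-- Lifts into a morphism with closed immersion diagonal are unique against a schematically dominant map. -/
theorem liftsUnique_of_dominant [f.toFunctor.Faithful]
    (hΔ : AlgSt.RepByAlgSpWith (AlgSp.RepWith @IsClosedImmersion) (FibCat.diag f))
    (j : 𝒜 ⥤ᵇ ℬ) {b₀ : ℬ.obj} [IsAffine (ℬ.p.obj b₀).left] (a₀ : 𝒜.obj) (ψ₀ : j.obj a₀ ⟶ b₀)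
    (hinj : Function.Injective (ℬ.p.map ψ₀).left.appTop)
    (hcov : ∀ b : ℬ.obj, ∃ R ∈ AlgSp.J S (ℬ.p.obj b), ∀ ⦃V : Over S⦄ (k : V ⟶ ℬ.p.obj b), R k →
      ∃ (b' : ℬ.obj) (ψ : b' ⟶ b) (_ : b' ⟶ b₀), ℬ.p.IsHomLift k ψ) :
    LiftsUnique j f := by
  intro sq d d'
  let η : BasedFunctor.comp d.fn f ≅ BasedFunctor.comp d'.fn f := d.isoBot.symm ≪≫ d'.isoBot
  let y : ℬ ⥤ᵇ FibCat.fp f f := FibCat.fpLift d.fn d'.fn η
  have hfp : FibCat.IsFibGrpd (FibCat.fp f f).p := fp_fibGrpd h𝒳 h𝒳 h𝒴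
  have hη : ∀ b, app d.isoBot.hom b ≫ app η.hom b = app d'.isoBot.hom b := fun b =>
    congrArg (fun k => app k b) (Iso.hom_inv_id_assoc d.isoBot d'.isoBot.hom)
  -- vertical morphisms compatible with the lower triangles
  let OK : ℬ.obj → Prop := fun b => ∃ θ : d.fn.obj b ⟶ d'.fn.obj b,
    𝒳.p.IsHomLift (𝟙 (ℬ.p.obj b)) θ ∧ f.map θ = app η.hom b
  have ofPt : ∀ {b}, Pt (FibCat.diag f) y b → OK b := fun {b} q => by
    have hl : (FibCat.fp f f).p.IsHomLift (𝟙 (ℬ.p.obj b)) q.α := q.lift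
    have h1 : 𝒳.p.IsHomLift (𝟙 (ℬ.p.obj b)) q.α.hom.fst := fp_isHomLift_fst _ q.α
    have h2 : 𝒳.p.IsHomLift (𝟙 (ℬ.p.obj b)) q.α.hom.snd := fp_isHomLift_snd' _ q.α
    have : IsIso q.α.hom.snd := isIso_of_fibGrpd h𝒳 (𝟙 (ℬ.p.obj b)) q.α.hom.snd
    refine ⟨q.α.hom.fst ≫ inv q.α.hom.snd,
      homLift_id_comp h1 (IsHomLift.lift_id_inv_isIso 𝒳.p _ q.α.hom.snd), ?_⟩
    have hw : f.map q.α.hom.fst ≫ 𝟙 _ = app η.hom b ≫ f.map q.α.hom.snd := q.α.hom.w
    rw [Category.comp_id] at hw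
    rw [f.toFunctor.map_comp, hw, Category.assoc, ← f.toFunctor.map_comp, IsIso.hom_inv_id, f.toFunctor.map_id]
    exact Category.comp_id _
  have toPt : ∀ {b}, OK b → Nonempty (Pt (FibCat.diag f) y b) := fun {b} ⟨θ, hθ, hθf⟩ =>
    ⟨⟨d'.fn.obj b, fpHom θ (𝟙 _) (by
      change f.map θ ≫ 𝟙 _ = app η.hom b ≫ f.map (𝟙 _)
      rw [hθf, f.toFunctor.map_id]),
      (fp_isHomLift_iff _ _).2 hθ⟩⟩
  have okTop : ∀ a, OK (j.obj a) := fun a => by
    have hb : 𝒳.p.obj (d'.fn.obj (j.obj a)) = ℬ.p.obj (j.obj a) := d'.fn.w_obj _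
    have hja : ℬ.p.obj (j.obj a) = 𝒜.p.obj a := j.w_obj a
    let t := app d.isoTop.hom a ≫ app d'.isoTop.inv a
    refine ⟨t, ?_, ?_⟩
    · rw [hja]
      exact homLift_id_comp (BasedNatTrans.isHomLift d.isoTop.hom rfl) (BasedNatTrans.isHomLift d'.isoTop.inv rfl)
    · have hw : ∀ e : sq.Lift, app e.isoBot.hom (j.obj a) ≫ f.map (app e.isoTop.hom a) = app sq.iso.hom a :=
        fun e => congrArg (fun k => app k a) e.w
      have hi : f.map (app d'.isoTop.hom a) ≫ f.map (app d'.isoTop.inv a) = 𝟙 _ := by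
        rw [← f.toFunctor.map_comp, ← f.toFunctor.map_id]
        exact congrArg f.toFunctor.map (congrArg (fun k => app k a) d'.isoTop.hom_inv_id)
      haveI hlift : 𝒴.p.IsHomLift (𝟙 (ℬ.p.obj (j.obj a))) (app d.isoBot.hom (j.obj a)) :=
        BasedNatTrans.isHomLift d.isoBot.hom rfl
      have := isIso_of_fibGrpd h𝒴 (𝟙 (ℬ.p.obj (j.obj a))) (app d.isoBot.hom (j.obj a))
      rw [← cancel_epi (app d.isoBot.hom (j.obj a)), hη, f.toFunctor.map_comp, reassoc_of% (hw d), ← hw d',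
        Category.assoc, hi]
      exact Category.comp_id _
  have chart : ∀ b, ∃ C : Chart (FibCat.diag f) y b, IsClosedImmersion C.q.left := fun b =>
    exists_chart_with (FibCat.diag f) y hℬ h𝒳 hfp _ (fun _ _ k (_ : IsClosedImmersion k) => inferInstance) hΔ b
  have ok₀ : OK b₀ := by
    obtain ⟨C, hC⟩ := chart b₀
    obtain ⟨q⟩ := toPt (okTop a₀)
    have := C.point_q ψ₀ q
    have : IsIso C.q.left := isIso_of_factor C.q.left (C.point ψ₀ q).left (by
      rw [← Over.comp_left, this]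
      exact hinj)
    let p : ℬ.p.obj b₀ ⟶ C.P := Over.homMk (inv C.q.left) (by rw [IsIso.inv_comp_eq, Over.w])
    obtain ⟨q₀, -⟩ := C.surj p (Over.OverMorphism.ext (IsIso.inv_hom_id _))
    exact ofPt q₀
  have ok : ∀ b, OK b := fun b => by
    obtain ⟨C, hC⟩ := chart b
    obtain ⟨R, hR, hk⟩ := hcov b
    have hfac : ∀ ⦃V : Over S⦄ (k : V ⟶ ℬ.p.obj b), R k → ∃ l : V ⟶ C.P, l ≫ C.q = k := fun V k hkR => by
      obtain ⟨b', ψ, η', hψ⟩ := hk k hkR
      obtain rfl : ℬ.p.obj b' = V := IsHomLift.domain_eq ℬ.p k ψ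
      obtain rfl : k = ℬ.p.map ψ := IsHomLift.eq_of_isHomLift ℬ.p k ψ
      obtain ⟨q⟩ := toPt ok₀
      obtain ⟨q', -⟩ := exists_rel h𝒳 hfp η' q
      exact ⟨C.point ψ q', C.point_q ψ q'⟩
    choose l hl using hfac
    have : Mono C.q.left := inferInstance
    have : Mono C.q := (Over.forget S).mono_of_mono_map this
    have hJ := (isSheaf_iff_isSheaf_of_type _ _).1 ((AlgSp.yon S).obj C.P).property R hR
    obtain ⟨s, hs, -⟩ := hJ (fun V k hk => ULift.up (l k hk)) (fun Y₁ Y₂ Z g₁ g₂ k₁ k₂ h₁ h₂ e =>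
      congrArg ULift.up (by
        change g₁ ≫ l k₁ h₁ = g₂ ≫ l k₂ h₂
        rw [← cancel_mono C.q, Category.assoc, Category.assoc, hl, hl]
        exact e))
    obtain ⟨q, -⟩ := C.surj s.down (hom_eq_of_sieve hR fun V k hk => by
      rw [← Category.assoc, show k ≫ s.down = l k hk from congrArg ULift.down (hs k hk), hl, Category.comp_id])
    exact ofPt q
  choose θ hθl hθf using ok
  let Θ : d.fn ⟶ d'.fn :=
    { app := θ
      naturality := fun b' b ψ => f.toFunctor.map_injective (by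
        rw [f.toFunctor.map_comp, f.toFunctor.map_comp, hθf, hθf]
        exact η.hom.toNatTrans.naturality ψ)
      isHomLift' := hθl }
  have hbot : d.isoBot.hom ≫ BasedCategory.whiskerRight Θ f = d'.isoBot.hom := hom_ext fun b => by
    change app d.isoBot.hom b ≫ f.map (θ b) = _
    rw [hθf, hη]
  have huniq : ∀ μ : d.fn ⟶ d'.fn, d.isoBot.hom ≫ BasedCategory.whiskerRight μ f = d'.isoBot.hom → μ = Θ :=
    fun μ hμ => hom_ext fun b => f.toFunctor.map_injective (by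
      haveI hl : 𝒴.p.IsHomLift (𝟙 (ℬ.p.obj b)) (app d.isoBot.hom b) := BasedNatTrans.isHomLift d.isoBot.hom rfl
      have := isIso_of_fibGrpd h𝒴 (𝟙 (ℬ.p.obj b)) (app d.isoBot.hom b)
      exact (cancel_epi (app d.isoBot.hom b)).1 ((congrArg (fun k => app k b) hμ).trans
        (congrArg (fun k => app k b) hbot).symm))
  have htop : BasedCategory.whiskerLeft j Θ ≫ d'.isoTop.hom = d.isoTop.hom := hom_ext fun a =>
    f.toFunctor.map_injective (by
      have hw : ∀ e : sq.Lift, app e.isoBot.hom (j.obj a) ≫ f.map (app e.isoTop.hom a) = app sq.iso.hom a :=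
        fun e => congrArg (fun k => app k a) e.w
      change f.map (θ (j.obj a) ≫ app d'.isoTop.hom a) = _
      haveI hlift : 𝒴.p.IsHomLift (𝟙 (ℬ.p.obj (j.obj a))) (app d.isoBot.hom (j.obj a)) :=
        BasedNatTrans.isHomLift d.isoBot.hom rfl
      have := isIso_of_fibGrpd h𝒴 (𝟙 (ℬ.p.obj (j.obj a))) (app d.isoBot.hom (j.obj a))
      rw [← cancel_epi (app d.isoBot.hom (j.obj a)), f.toFunctor.map_comp, hθf, reassoc_of% hη, hw d']
      exact (hw d).symm)
  exact ⟨⟨⟨⟨Θ, htop, hbot⟩⟩, fun μ => Sq.Lift.hom_ext (huniq μ.hom μ.w_bot)⟩⟩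

end Groth.Agent.H14Lift
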