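import Groth.Agent.H14Lift.Separated
import Groth.Agent.H14Lift.QuotGood

/-!
# The point `1` of the quotient of the line is schematically dominant
-/

set_option autoImplicit false
set_option linter.unusedVariables false
set_option backward.isDefEq.respectTransparency false
set_option backward.isDefEq.respectTransparency.types false

universe u

open CategoryTheory CategoryTheory.Limits MonoidalCategory CartesianMonoidalCategory MonObj GrpObj
open AlgebraicGeometry Opposite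
open scoped TensorProduct Polynomial

noncomputable section

namespace Groth.Agent.H14Lift

open H14Fib H14Stk H14AlgSt H14Quot

local notation "K₀" => Scheme.fppfPrecoverage

/-- Objects of a quotient stack are locally trivial torsors at the universal point. -/
lemma quotSt_locally {S S' : Scheme.{u}} (h : S' ⟶ S) {G : Over S'} [GrpObj G] {X : Over S'}
    {aX : AlgGrp.Action G X} (b : (ThetaS.overS h (AlgSt.QuotSt K₀ G aX)).obj) :
    ∃ R ∈ AlgSp.J S ((ThetaS.overS h (AlgSt.QuotSt K₀ G aX)).p.obj b),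
      ∀ ⦃V : Over S⦄ (k : V ⟶ (ThetaS.overS h (AlgSt.QuotSt K₀ G aX)).p.obj b), R k →
        ∃ (b' : (ThetaS.overS h (AlgSt.QuotSt K₀ G aX)).obj) (ψ : b' ⟶ b)
          (_ : b' ⟶ triv K₀ G aX (𝟙 X)), (ThetaS.overS h (AlgSt.QuotSt K₀ G aX)).p.IsHomLift k ψ := by
  let ℬ := ThetaS.overS h (AlgSt.QuotSt K₀ G aX)
  have hℬ : FibCat.IsFibGrpd ℬ.p := fibGrpd_comp _ _ quotSt_fibGrpd (fibGrpd_overMap h)
  let b₀ := triv K₀ G aX (𝟙 X)
  let mk₀ : ∀ {Z : Over S'} (a : Z ⟶ X), triv K₀ G aX a ⟶ b₀ := fun {Z} a =>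
    (AlgSt.quotMap K₀ G aX).map ((AlgSt.ofOverCat X).map (toTop (Over.mk a)))
  obtain ⟨R, hR, hs⟩ := b.loc
  obtain ⟨κ, Z, g, rfl⟩ := Presieve.exists_eq_ofArrows R
  have hR' : Presieve.ofArrows Z g ∈ Scheme.fppfPrecoverage.coverings b.base.left := hR
  obtain ⟨hcov, hmor⟩ := (Scheme.ofArrows_mem_precoverage_iff _).1 hR'
  choose i hi using hcov
  let C : b.base.left → Over S' := fun x => Over.mk (g (i x) ≫ b.base.hom)
  let c : ∀ x, C x ⟶ b.base := fun x => Over.homMk (g (i x)) rfl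
  let R' : Sieve (ℬ.p.obj b) :=
    { arrows := fun V k => ∃ (b' : ℬ.obj) (ψ : b' ⟶ b) (_ : b' ⟶ b₀), ℬ.p.IsHomLift k ψ
      downward_closed := by
        rintro V V' k ⟨b', ψ, eη, hψ⟩ g'
        obtain ⟨b'', γc, hγ⟩ := exists_sc_lift hℬ (IsHomLift.domain_eq ℬ.p k ψ) g'
        exact ⟨b'', γc ≫ ψ, γc ≫ eη, homLift_comp' inferInstance hψ⟩ }
  refine ⟨R', GrothendieckTopology.superset_covering _ ?_ (H13AlgSp.ofArrows_mem_J
    (T := ℬ.p.obj b) (C := fun x => (Over.map h).obj (C x)) (fun x => (Over.map h).map (c x))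
    (fun x => (hmor (i x)).1) (fun x => (hmor (i x)).2) (fun t => ⟨t, hi t⟩)), fun V k hk => hk⟩
  refine (Sieve.generate_le_iff _ _).2 (Presieve.ofArrows_le_iff.2 fun x => ?_)
  obtain ⟨s, hsg⟩ := hs (g (i x)) ⟨i x⟩
  change s ≫ b.π.left = g (i x) at hsg
  let s' : C x ⟶ b.P := Over.homMk s (by
    change s ≫ b.P.hom = g (i x) ≫ b.base.hom
    rw [← hsg, Category.assoc, Over.w b.π])
  let ψ : triv K₀ G aX (s' ≫ b.φ) ⟶ b := homOfSec s' rfl
  refine ⟨triv K₀ G aX (s' ≫ b.φ), ψ, mk₀ _, ?_⟩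
  have hb : ψ.base = c x := Over.OverMorphism.ext hsg
  rw [← hb]
  exact IsHomLift.map ℬ.p ψ

/-- Lifts of the point `1` of the quotient of the line into separated representable morphisms are unique. -/
theorem liftsUnique_thetaOne {S : Scheme.{u}} {R : Type u} [CommRing R] (h : Spec (CommRingCat.of R) ⟶ S)
    {𝒳 𝒴 : AlgSt.Cat S} (f : 𝒳 ⥤ᵇ 𝒴) (h𝒳 : AlgSt.IsAlgStack K₀ 𝒳) (h𝒴 : AlgSt.IsAlgStack K₀ 𝒴)
    (hrep : AlgSt.RepByAlgSp1 f) (hsep : AlgSt.IsSeparatedMor f) :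
    LiftSq.LiftsUnique (ThetaS.thetaOne K₀ R h) f := by
  have := faithful_of_repByAlgSp1 h𝒳.isStack.1 h𝒴.isStack.1 hrep
  let ℬ := ThetaS.Theta K₀ R h
  have hℬ : FibCat.IsFibGrpd ℬ.p := fibGrpd_comp _ _ quotSt_fibGrpd (fibGrpd_overMap h)
  let b₀ : ℬ.obj := triv K₀ (ThetaS.Gm R) (ThetaS.lineAction R) (𝟙 (ThetaS.Line R))
  haveI : IsAffine (ℬ.p.obj b₀).left := inferInstanceAs (IsAffine (Spec _))
  let Λ := ThetaS.Lau R
  let a₀ : (ThetaS.baseSt h).obj := CoactBr.sp R Λ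
  let g : Λ →ₐ[R] Λ := HopfAlgebra.antipodeAlgHom R Λ
  let x₁ : CoactBr.sp R Λ ⟶ ThetaS.Line R :=
    Over.homMk ((CoactBr.sp R Λ).hom ≫ ThetaS.onePt R) (by
      rw [Category.assoc, ThetaS.onePt_hom, Category.comp_id])
  let σ : CoactBr.sp R Λ ⟶ ThetaS.Gm R ⊗ ThetaS.Line R :=
    lift (CoactBr.pt g) (CoactBr.pt (ThetaS.linePt (ThetaS.zPow R 1)))
  have hx : CoactBr.pt (ThetaS.linePt (1 : Λ)) = x₁ := by
    rw [show ThetaS.linePt (1 : Λ) = (Algebra.ofId R Λ).comp (ThetaS.lineOne R) from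
      Polynomial.algHom_ext (by simp), CoactBr.pt_comp]
    rfl
  have hσ : σ ≫ ((ThetaS.Gm R) ◁ 𝟙 _ ≫ (ThetaS.lineAction R).act) = x₁ := by
    rw [MonoidalCategory.whiskerLeft_id, Category.id_comp, ThetaS.lineAction_pt, ← hx]
    congr 2
    rw [HopfAlgebra.antipodeAlgHom_apply, ThetaS.antipode_zPow, ThetaS.zPow_mul, neg_add_cancel, ThetaS.zPow_zero]
  let ψ₀ : (ThetaS.thetaOne K₀ R h).obj a₀ ⟶ b₀ := homOfSec (x := x₁) σ hσ
  refine liftsUnique_of_dominant (f := f) h𝒳.isStack.1 h𝒴.isStack.1 hℬ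
    (repWith_closedImmersion_diag h𝒳 h𝒴 hrep hsep) (ThetaS.thetaOne K₀ R h) (b₀ := b₀) a₀ ψ₀ ?_
    fun b => quotSt_locally h b
  have hb : (ℬ.p.map ψ₀).left = Spec.map (CommRingCat.ofHom (ThetaS.linePt (ThetaS.zPow R 1)).toRingHom) := by
    change (σ ≫ snd _ _).left = _
    rw [lift_snd]
    rfl
  rw [hb]
  have hi : Function.Injective (ThetaS.linePt (ThetaS.zPow R 1) : R[X] →ₐ[R] Λ) := by
    have e : ∀ n : ℕ, ThetaS.zPow R 1 ^ n = ThetaS.zPow R n := fun n => by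
      induction n with
      | zero => rw [pow_zero, Nat.cast_zero, ThetaS.zPow_zero]
      | succ n ih => rw [pow_succ, ih, ThetaS.zPow_mul, Nat.cast_succ]
    intro p q hpq
    refine Polynomial.ext fun n => ?_
    have key : ∀ p : R[X], (ThetaS.linePt (ThetaS.zPow R 1) p : Λ).coeff (Multiplicative.ofAdd (n : ℤ)) = p.coeff n := by
      intro p
      induction p using Polynomial.induction_on' with
      | add p q hp hq => rw [map_add, MonoidAlgebra.coeff_add, Finsupp.add_apply, hp, hq, Polynomial.coeff_add]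
      | monomial m r =>
        rw [ThetaS.linePt, Polynomial.aeval_monomial, e, ← Algebra.smul_def, Polynomial.coeff_monomial]
        simp [ThetaS.zPow, Finsupp.single_apply]
    rw [← key p, ← key q, hpq]
  have hn := Scheme.ΓSpecIso_naturality (CommRingCat.ofHom (ThetaS.linePt (ThetaS.zPow R 1) : R[X] →ₐ[R] Λ).toRingHom)
  intro a b e
  refine (ConcreteCategory.bijective_of_isIso (Scheme.ΓSpecIso (CommRingCat.of R[X])).hom).1 (hi ?_)
  exact ((ConcreteCategory.congr_hom hn a).symm.trans (congrArg (Scheme.ΓSpecIso (CommRingCat.of Λ)).hom e)).trans (ConcreteCategory.congr_hom hn b)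

end Groth.Agent.H14Lift
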